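/-
A non-trivial member fixing the orthogonal of a singular line pointwise gives a root element.
-/
import Cfsg.Agent.Lib.OrthTensor.Base

set_option autoImplicit false
set_option linter.unusedSectionVars false

namespace Cfsg.Agent.OrthTensor

open scoped Matrix Kronecker
open Matrix Cfsg.Agent.Transvec Cfsg.Agent.TensorMax
open Cfsg.Agent.TensorMax.U (kr mv_kr_ten isKron_kr ext_ten_mv)
open Cfsg.Agent.Transvec.Orth (pol IsSiegel)

variable {α β : Type} [Fintype α] [DecidableEq α] [Fintype β] [DecidableEq β] {F : Type*} [Field F]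
variable {Q : (α × β → F) → F} {q₁ : (α → F) → F} {q₂ : (β → F) → F}
variable {M : Subgroup (GL (α × β) F)}

theorem sum_two_squares [Fintype F] (h2 : (2 : F) ≠ 0) (k : F) : ∃ x y : F, x ^ 2 + y ^ 2 = k := by
  obtain ⟨x, y, hxy⟩ := FiniteField.exists_root_sum_quadratic
    (f := Polynomial.X ^ 2 - Polynomial.C k) (g := (Polynomial.X : Polynomial F) ^ 2)
    (Polynomial.degree_X_pow_sub_C two_pos _) (Polynomial.degree_X_pow 2)
    (Nat.odd_iff.1 (Nat.odd_iff.2 (FiniteField.odd_card_of_char_ne_two fun h => h2 (by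
      have : CharP F 2 := ringChar.eq_iff.1 h
      exact CharP.cast_eq_zero F 2))))
  refine ⟨x, y, ?_⟩
  simp only [Polynomial.eval_sub, Polynomial.eval_pow, Polynomial.eval_X, Polynomial.eval_C] at hxy
  linear_combination hxy

/-- A map is the middle of a member fixing the orthogonal of c pointwise. -/
def InCentre (q₂ : (β → F) → F) (M : Subgroup (GL (α × β) F)) (c : β → F)
    (Y : (α → F) →ₗ[F] α → F) : Prop :=
  ∃ g ∈ M, ∀ x, mv g x = x + ten (Y (pc q₂ c x)) c

theorem InCentre.add (C : Ctx Q q₁ q₂ M) {c : β → F} (hc : q₂ c = 0) {Y Y' : (α → F) →ₗ[F] α → F}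
    (h : InCentre q₂ M c Y) (h' : InCentre q₂ M c Y') : InCentre q₂ M c (Y + Y') := by
  obtain ⟨g, hg, hgx⟩ := h
  obtain ⟨g', hg', hgx'⟩ := h'
  refine ⟨g * g', M.mul_mem hg hg', fun x => ?_⟩
  rw [mv_mul, hgx', hgx, map_add, pc_ten_self C hc, add_zero, LinearMap.add_apply, ten_add_left]
  abel

theorem InCentre.neg (C : Ctx Q q₁ q₂ M) {c : β → F} (hc : q₂ c = 0) {Y : (α → F) →ₗ[F] α → F}
    (h : InCentre q₂ M c Y) : InCentre q₂ M c (-Y) := by
  obtain ⟨g, hg, hgx⟩ := h
  refine ⟨g⁻¹, M.inv_mem hg, fun x => ?_⟩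
  rw [mv_eq_iff, inv_inv, hgx, map_add, pc_ten_self C hc, add_zero, LinearMap.neg_apply, ten_neg_left]
  abel

/-- A failure of the centre condition gives a root element. -/
theorem root_of_centre [Fintype F] (C : Ctx Q q₁ q₂ M) (hC : ¬ CentreTriv q₂ M) : Root Q q₁ q₂ M := by
  classical
  simp only [CentreTriv, not_forall] at hC
  obtain ⟨c, hc0, hc, g, hg, hfix, hg1⟩ := hC
  obtain ⟨Y, hY0, hgx⟩ := centre_shape C (C.le hg) hc0 hc hfix
  have hskew : ∀ u v, pol q₁ u (Y v) = -pol q₁ v (Y u) := fun u v => by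
    have e := hY0 (u + v)
    rw [map_add, Orth.pol_add_left C.h₁, Orth.pol_add_right C.h₁, Orth.pol_add_right C.h₁, hY0, hY0] at e
    linear_combination e
  obtain ⟨e, he0, he, hz⟩ : ∃ e, e ≠ 0 ∧ q₁ e = 0 ∧ Y e ∉ Submodule.span F {e} := by
    by_contra hcon
    push Not at hcon
    obtain ⟨e, -, he0, he⟩ := Orth.exists_singular C.h₁ (X := ⊤)
      (by rw [finrank_top, Module.finrank_pi]; exact C.hα)
    obtain ⟨d, hd, hed⟩ := exists_pair C.h₁ he0 he
    have hee := pol_self_zero C.h₁ he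
    have hdd := pol_self_zero C.h₁ hd
    have hde : pol q₁ d e = 1 := by rw [Orth.pol_comm, hed]
    obtain ⟨hXn, hXf, hXm⟩ := pair_perp C.h₁ he hd hed
    obtain ⟨l, hl⟩ := Submodule.mem_span_singleton.1 (hcon e he0 he)
    obtain ⟨m, hm⟩ := Submodule.mem_span_singleton.1
      (hcon d (fun h => by rw [h, Orth.pol_zero_left C.h₁] at hde; exact zero_ne_one hde) hd)
    have hlm : m = -l := by
      have h1 := hskew e d
      rw [← hm, ← hl, Orth.pol_smul_right C.h₁, Orth.pol_smul_right C.h₁, hed, hde] at h1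
      linear_combination h1
    have hy : ∀ y, pol q₁ y e = 0 → pol q₁ y d = 0 →
        Y y = -l • y + (2 * l * q₁ y) • e ∧ Y y = l • y - (2 * l * q₁ y) • d := by
      intro y hye hyd
      constructor
      · set e' := d + y - q₁ y • e with he'
        have he'q : q₁ e' = 0 := by
          rw [he', Orth.q_sub C.h₁, Orth.q_add C.h₁, Orth.q_smul C.h₁, he, hd, Orth.pol_smul_right C.h₁,
            Orth.pol_add_left C.h₁, hde, Orth.pol_comm d y, hyd, hye]
          ring
        have hee' : pol q₁ e e' = 1 := by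
          rw [he', Orth.pol_sub_right C.h₁, Orth.pol_add_right C.h₁, Orth.pol_smul_right C.h₁, hed, hee,
            Orth.pol_comm e y, hye]
          ring
        obtain ⟨k, hk⟩ := Submodule.mem_span_singleton.1
          (hcon e' (fun h => by rw [h, Orth.pol_zero_right C.h₁] at hee'; exact zero_ne_one hee') he'q)
        have hkl : k = -l := by
          have h1 := hskew e e'
          rw [← hk, ← hl, Orth.pol_smul_right C.h₁, Orth.pol_smul_right C.h₁, hee', Orth.pol_comm e' e, hee'] at h1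
          linear_combination h1
        rw [hkl, he', map_sub, map_add, map_smul, ← hl, ← hm, hlm] at hk
        linear_combination (norm := module) -hk
      · set e' := e + y - q₁ y • d with he'
        have he'q : q₁ e' = 0 := by
          rw [he', Orth.q_sub C.h₁, Orth.q_add C.h₁, Orth.q_smul C.h₁, he, hd, Orth.pol_smul_right C.h₁,
            Orth.pol_add_left C.h₁, hed, Orth.pol_comm e y, hye, hyd]
          ring
        have hde' : pol q₁ d e' = 1 := by
          rw [he', Orth.pol_sub_right C.h₁, Orth.pol_add_right C.h₁, Orth.pol_smul_right C.h₁, hde, hdd,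
            Orth.pol_comm d y, hyd]
          ring
        obtain ⟨k, hk⟩ := Submodule.mem_span_singleton.1
          (hcon e' (fun h => by rw [h, Orth.pol_zero_right C.h₁] at hde'; exact zero_ne_one hde') he'q)
        have hkl : k = l := by
          have h1 := hskew d e'
          rw [← hk, ← hm, hlm, Orth.pol_smul_right C.h₁, Orth.pol_smul_right C.h₁, hde', Orth.pol_comm e' d,
            hde'] at h1
          linear_combination h1
        rw [hkl, he', map_sub, map_add, map_smul, ← hl, ← hm, hlm] at hk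
        linear_combination (norm := module) -hk
    obtain ⟨y₀, hy₀X, hy₀⟩ := Orth.exists_anisotropic C.h₁ hXn fun h => by
      rw [h, finrank_bot] at hXf; have := C.hα; omega
    obtain ⟨hy₀e, hy₀d⟩ := (hXm y₀).1 hy₀X
    have hl0 : l = 0 := by
      obtain ⟨a1, a2⟩ := hy y₀ hy₀e hy₀d
      have h1 := congrArg (fun v => pol q₁ v d) (a1.symm.trans a2)
      simp only [Orth.pol_add_left C.h₁, Orth.pol_sub_left C.h₁, Orth.pol_smul_left C.h₁, hy₀d, hed, hdd] at h1
      exact (mul_eq_zero.1 (show l * ((2 : F) * q₁ y₀) = 0 by linear_combination h1)).resolve_right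
        (mul_ne_zero C.two hy₀)
    refine hg1 (ext_mv fun x => ?_)
    have hY : Y = 0 := LinearMap.ext fun u => by
      obtain ⟨h1, h2⟩ := pair_decomp C.h₁ he hd hed u
      rw [show u = pol q₁ u d • e + pol q₁ u e • d + (u - pol q₁ u d • e - pol q₁ u e • d) by abel]
      rw [map_add, map_add, map_smul, map_smul, ← hl, ← hm, hlm, (hy _ h1 h2).1, hl0]
      simp
    rw [hgx, hY, LinearMap.zero_apply, ten_zero_left, add_zero, mv_one]
  set z := Y e with hzdef
  have hez : pol q₁ e z = 0 := hY0 e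
  have hee := pol_self_zero C.h₁ he
  have hze : pol q₁ z e = 0 := by rw [Orth.pol_comm, hez]
  obtain ⟨d, hd, hed⟩ := exists_pair C.h₁ he0 he
  obtain ⟨hXn, hXf, hXm⟩ := pair_perp C.h₁ he hd hed
  obtain ⟨y, hyX, hqy⟩ := Orth.exists_anisotropic C.h₁ hXn fun h => by
    rw [h, finrank_bot] at hXf; have := C.hα; omega
  obtain ⟨hye, -⟩ := (hXm y).1 hyX
  set R := pol q₁ z y • y - q₁ y • z with hR
  have hRe : pol q₁ e R = 0 := by
    rw [hR, Orth.pol_sub_right C.h₁, Orth.pol_smul_right C.h₁, Orth.pol_smul_right C.h₁, Orth.pol_comm e y,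
      hye, hez]
    ring
  have hRn : R ∉ Submodule.span F {e} := by
    intro hm
    obtain ⟨k, hk⟩ := Submodule.mem_span_singleton.1 hm
    have e1 := congrArg (fun v => pol q₁ v y) hk
    simp only [hR, Orth.pol_smul_left C.h₁, Orth.pol_sub_left C.h₁, Orth.pol_comm e y, hye, mul_zero,
      Orth.pol_self C.h₁] at e1
    have hs : pol q₁ z y = 0 :=
      (mul_eq_zero.1 (show pol q₁ z y * q₁ y = 0 by linear_combination -e1)).resolve_right hqy
    rw [hR, hs, zero_smul, zero_sub] at hk
    exact hz (Submodule.mem_span_singleton.2 ⟨-(q₁ y)⁻¹ * k, by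
      rw [mul_smul, hk, smul_neg, neg_smul, neg_neg, smul_smul, inv_mul_cancel₀ hqy, one_smul]⟩)
  let P : (α → F) →ₗ[F] α → F :=
    LinearMap.smulRight (Orth.formQ C.h₁ e) R - LinearMap.smulRight (Orth.formQ C.h₁ R) e
  have hP : ∀ u, P u = pol q₁ u e • R - pol q₁ u R • e := fun u => rfl
  have hmem : InCentre q₂ M c Y := ⟨g, hg, hgx⟩
  -- second differences of conjugates
  have hquad : ∀ t : F, InCentre q₂ M c ((2 * t ^ 2) • P) := by
    intro t
    have hconj : ∀ s : F, ∃ Y', InCentre q₂ M c Y' ∧ ∀ u, Y' u = Y u +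
        s • (-(pol q₁ u e) • Y y + pol q₁ u y • z - pol q₁ u z • y + pol q₁ u (Y y) • e) +
        (s ^ 2) • P u := by
      intro s
      obtain ⟨A, hA, hAs, hAM⟩ := memU_siegel C (y := s • y) he
        (by rw [Orth.pol_smul_right C.h₁, Orth.pol_comm, hye, mul_zero])
      refine ⟨(mvLin A).comp (Y.comp (mvLin A⁻¹)), ⟨kr A 1 * g * (kr A 1)⁻¹,
        M.mul_mem (M.mul_mem hAM hg) (M.inv_mem hAM), fun x => ?_⟩, fun u => ?_⟩
      · rw [mv_mul, mv_mul, hgx, mv_add, mv_mv_inv, krL_inv, pc_krL, mv_kr_ten, mv_one]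
        simp only [LinearMap.comp_apply, Matrix.toLin'_apply]
      · obtain ⟨A', hA', hAs'⟩ := Orth.exists_siegel C.h₁ (y := (-s) • y) he
          (by rw [Orth.pol_smul_right C.h₁, Orth.pol_comm, hye, mul_zero])
        have hinv : A⁻¹ = A' := by
          refine inv_eq_of_mul_eq_one_right (Orth.isSiegel_unique
            (Orth.isSiegel_mul C.h₁ he (by rw [Orth.pol_smul_right C.h₁, Orth.pol_comm, hye, mul_zero])
              (by rw [Orth.pol_smul_right C.h₁, Orth.pol_comm, hye, mul_zero]) hAs hAs') ?_)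
          rw [neg_smul, add_neg_cancel]; exact Orth.isSiegel_zero C.h₁ e
        have hyy : pol q₁ (Y y) y = 0 := by rw [Orth.pol_comm, hY0]
        have k1 : pol q₁ (Y u) e = -pol q₁ u z := by rw [Orth.pol_comm, hskew, ← hzdef]
        have k2 : pol q₁ (Y y) e = -pol q₁ z y := by
          rw [Orth.pol_comm, hskew, ← hzdef, Orth.pol_comm y z]
        have k3 : pol q₁ (Y u) y = -pol q₁ u (Y y) := by rw [Orth.pol_comm, hskew]
        simp only [LinearMap.comp_apply, Matrix.toLin'_apply]
        show mv A (Y (mv A⁻¹ u)) = _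
        rw [hinv, hAs' u, hAs]
        simp only [map_add, map_sub, map_smul, Orth.pol_add_left C.h₁, Orth.pol_sub_left C.h₁,
          Orth.pol_smul_left C.h₁, Orth.pol_smul_right C.h₁, Orth.q_smul C.h₁, ← hzdef, hyy, k1, k2, k3, hze,
          hP, hR, Orth.pol_sub_right C.h₁]
        module
    obtain ⟨Y₂, hY₂, hY₂u⟩ := hconj (2 * t)
    obtain ⟨Y₁, hY₁, hY₁u⟩ := hconj t
    have h := ((hY₂.add C hc (hY₁.neg C hc)).add C hc (hY₁.neg C hc)).add C hc hmem
    convert h using 1
    refine LinearMap.ext fun u => ?_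
    simp only [LinearMap.add_apply, LinearMap.neg_apply, LinearMap.smul_apply, hY₂u, hY₁u]
    module
  refine ⟨e, R, c, he0, he, hc0, hc, hRe, hRn, by rw [C.hpol, hRe, zero_mul], fun t => ?_⟩
  obtain ⟨x₁, x₂, hx⟩ := sum_two_squares C.two (t / 2)
  obtain ⟨s, hs, hsx⟩ := (hquad x₁).add C hc (hquad x₂)
  refine ⟨s, hs, fun w => ?_⟩
  have ht : 2 * x₁ ^ 2 + 2 * x₂ ^ 2 = t := by
    rw [← mul_add, hx, mul_div_cancel₀ _ C.two]
  rw [hsx, ← add_smul, ht, LinearMap.smul_apply, hP, Orth.q_smul C.hQ, C.q_iso_right hc,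
    Orth.pol_smul_right C.hQ, C.pol_pc, C.pol_pc]
  funext i
  simp [ten]
  ring

end Cfsg.Agent.OrthTensor
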