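/-
One root element generates the commutator subgroup.
-/
import Cfsg.Agent.Lib.OrthTensor.Base

set_option autoImplicit false
set_option linter.unusedSectionVars false

namespace Cfsg.Agent.OrthTensor

open scoped Matrix Kronecker
open Matrix Cfsg.Agent.Transvec Cfsg.Agent.TensorMax
open Cfsg.Agent.TensorMax.U (kr mv_kr_ten isKron_kr ext_ten_mv)
open Cfsg.Agent.Transvec.Orth (pol IsSiegel)

variable {α β : Type} [Fintype α] [DecidableEq α] [Fintype β] [DecidableEq β] {F : Type*} [Field F]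
variable {Q : (α × β → F) → F} {q₁ : (α → F) → F} {q₂ : (β → F) → F}
variable {M : Subgroup (GL (α × β) F)}

/-- The second vectors of root elements at x. -/
def sieSub (C : Ctx Q q₁ q₂ M) (x : α × β → F) (hx : Q x = 0) : Submodule F (α × β → F) where
  carrier := {y | Sie Q M x y}
  add_mem' ha hb := Sie.add C hx ha hb
  zero_mem' := Sie.zero C x
  smul_mem' t _ h := Sie.smul C h t

theorem mem_sieSub (C : Ctx Q q₁ q₂ M) {x y : α × β → F} {hx : Q x = 0} :
    y ∈ sieSub C x hx ↔ Sie Q M x y := Iff.rfl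

/-- Root elements at e ⊗ c and e ⊗ w. -/
theorem sie_same [Finite F] (C : Ctx Q q₁ q₂ M) (h4 : Fintype.card α ≠ 4) (hR : Root Q q₁ q₂ M)
    {e : α → F} (he0 : e ≠ 0) (he : q₁ e = 0) {c : β → F} (hc0 : c ≠ 0) (hc : q₂ c = 0) (w : β → F) :
    Sie Q M (ten e c) (ten e w) := by
  obtain ⟨e₀, R, c₀, he₀0, he₀, hc₀0, hc₀, heR, hRn, hS⟩ := hR
  -- all singular second vectors
  have hall : ∀ c, c ≠ 0 → q₂ c = 0 → Sie Q M (ten e₀ c) (ten R c) := by
    refine iso_trans C.h₂ (P := fun c => Sie Q M (ten e₀ c) (ten R c)) (by have := C.hβ; omega)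
      (fun x g u y hx hu hy hg => ?_) (fun x t _ hx => ?_) hc₀0 hc₀ hS
    · obtain ⟨B, -, hBs, hBM⟩ := memW_siegel C hu hy
      have := hx.conj C hBM
      rw [mv_kr_ten, mv_kr_ten, mv_one, mv_one, Orth.isSiegel_unique hBs hg] at this
      exact this
    · have := (hx.smul_left C t).smul C t
      rwa [← ten_smul_right, ← ten_smul_right] at this
  -- an isometry fixing e₀ and not fixing R
  obtain ⟨A, hAe, hAR, hAM⟩ : ∃ A : GL α F, mv A e₀ = e₀ ∧ pol q₁ R (mv A R) ≠ 0 ∧ kr A 1 ∈ M := by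
    by_cases hRq : q₁ R = 0
    swap
    · refine ⟨1, mv_one _, by rw [mv_one, Orth.pol_self C.h₁]; exact mul_ne_zero C.two hRq, ?_⟩
      rw [show kr (1 : GL α F) (1 : GL β F) = 1 from ext_ten_mv fun u v => by simp [mv_kr_ten, mv_one]]
      exact M.one_mem
    obtain ⟨d, hd, hed⟩ := exists_pair C.h₁ he₀0 he₀
    obtain ⟨hXn, hXf, hXm⟩ := pair_perp C.h₁ he₀ hd hed
    set R' := R - pol q₁ R d • e₀ with hR'
    have hR'q : q₁ R' = 0 := by
      rw [hR', Orth.q_sub C.h₁, Orth.q_smul C.h₁, he₀, hRq, Orth.pol_smul_right C.h₁, Orth.pol_comm R e₀, heR]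
      ring
    have hR'0 : R' ≠ 0 := fun h => hRn (Submodule.mem_span_singleton.2 ⟨_, (sub_eq_zero.1 h).symm⟩)
    have hR'X : R' ∈ (⊤ : Submodule F (α → F)) ⊓ Orth.orth C.h₁ (Submodule.span F {e₀, d}) := (hXm R').2
      ⟨by rw [hR', Orth.pol_sub_left C.h₁, Orth.pol_smul_left C.h₁, Orth.pol_comm R e₀, heR,
          pol_self_zero C.h₁ he₀]; ring,
       by rw [hR', Orth.pol_sub_left C.h₁, Orth.pol_smul_left C.h₁, hed]; ring⟩
    obtain ⟨u, huX, hu, hRu⟩ := Orth.exists_partner C.h₁ hXn hR'X hR'0 hR'q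
    obtain ⟨hPn, hP2⟩ := Orth.nondeg_pair C.h₁ hR'q hu hRu
    have hle : Submodule.span F ({R', u} : Set (α → F)) ≤
        (⊤ : Submodule F (α → F)) ⊓ Orth.orth C.h₁ (Submodule.span F {e₀, d}) :=
      Submodule.span_le.2 (by
        rintro z (rfl | rfl)
        exacts [hR'X, huX])
    have hYf := Orth.finrank_inf_orth_add C.h₁ hPn hle
    rw [hP2] at hYf
    obtain ⟨y, hy, hyq⟩ := Orth.exists_anisotropic C.h₁ (Orth.nondeg_inf_orth C.h₁ hPn hXn hle) fun h => by
      rw [h, finrank_bot] at hYf; omega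
    obtain ⟨hue, -⟩ := (hXm u).1 huX
    obtain ⟨hye, -⟩ := (hXm y).1 hy.1
    have hR'y : pol q₁ R' y = 0 := hy.2 R' (Submodule.subset_span (Set.mem_insert _ _))
    have huy : pol q₁ u y = 0 := hy.2 u (Submodule.subset_span (Set.mem_insert_of_mem _ rfl))
    obtain ⟨A, -, hAs, hAM⟩ := memU_siegel C hu huy
    refine ⟨A, ?_, ?_, hAM⟩
    · exact Orth.isSiegel_fix C.h₁ hAs (by rw [Orth.pol_comm]; exact hue) (by rw [Orth.pol_comm]; exact hye)
    · have hRe : R = R' + pol q₁ R d • e₀ := by rw [hR']; abel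
      have h1 : pol q₁ R u = 1 := by
        rw [hRe, Orth.pol_add_left C.h₁, Orth.pol_smul_left C.h₁, Orth.pol_comm e₀ u, hue, hRu]; ring
      have h2 : pol q₁ R y = 0 := by
        rw [hRe, Orth.pol_add_left C.h₁, Orth.pol_smul_left C.h₁, Orth.pol_comm e₀ y, hye, hR'y]; ring
      rw [hAs, h1, h2, Orth.pol_sub_right C.h₁, Orth.pol_add_right C.h₁, Orth.pol_smul_right C.h₁,
        Orth.pol_smul_right C.h₁, h1, h2, Orth.pol_self C.h₁, hRq]
      simpa using hyq
  have heAR : pol q₁ e₀ (mv A R) = 0 := by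
    obtain ⟨d, -, hcd⟩ := exists_pair C.h₂ hc₀0 hc₀
    have h := C.iso hAM (ten e₀ c₀) (ten R d)
    rw [mv_kr_ten, mv_kr_ten, mv_one, mv_one, hAe, C.hpol, C.hpol, hcd, mul_one, mul_one, heR] at h
    exact h
  -- the first root vector with every second vector
  have hfirst : ∀ c, c ≠ 0 → q₂ c = 0 → ∀ w, Sie Q M (ten e₀ c) (ten e₀ w) := by
    intro c hc0 hc w
    have hx : Q (ten e₀ c) = 0 := C.q_iso_left he₀ c
    obtain ⟨d, hd, hcd⟩ := exists_pair C.h₂ hc0 hc
    refine eq_top_of_pairs C.h₂ hc hd hcd (S := (sieSub C _ hx).comap (lam e₀)) (Sie.self C hx)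
      (fun c' hc' hcc' => ?_) w
    have hc'0 : c' ≠ 0 := fun h => by rw [h, Orth.pol_zero_right C.h₂] at hcc'; exact zero_ne_one hcc'
    have h1 := (hall c' hc'0 hc').conj C hAM
    rw [mv_kr_ten, mv_kr_ten, mv_one, hAe] at h1
    obtain ⟨k, hk, hks⟩ := h1.2 1
    rw [one_smul] at hks
    have k1 : mv k (ten e₀ c) = ten e₀ c := Orth.isSiegel_fix C.hQ hks
      (by rw [C.hpol, pol_self_zero C.h₁ he₀, zero_mul]) (by rw [C.hpol, heAR, zero_mul])
    have k2 : mv k (ten R c) = ten R c - pol q₁ R (mv A R) • ten e₀ c' := by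
      rw [hks, C.hpol, C.hpol, Orth.pol_comm R e₀, heR, hcc']
      simp
    have h2 := (hall c hc0 hc).conj C hk
    rw [k1, k2] at h2
    have h3 := (hall c hc0 hc).sub C hx h2
    rw [sub_sub_cancel] at h3
    show Sie Q M (ten e₀ c) (ten e₀ c')
    have h4 := h3.smul C (pol q₁ R (mv A R))⁻¹
    rwa [smul_smul, inv_mul_cancel₀ hAR, one_smul] at h4
  -- every singular first vector
  revert c w
  refine iso_trans C.h₁ (P := fun e => ∀ {c : β → F}, c ≠ 0 → q₂ c = 0 → ∀ w : β → F, Sie Q M (ten e c) (ten e w))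
    C.hα (fun x g u y hx hu hy hg {c} hc0 hc w => ?_) (fun x t _ hx {c} hc0 hc w => ?_) he₀0 he₀
    (fun {c} hc0 hc w => hfirst c hc0 hc w) e he0 he
  · obtain ⟨A, -, hAs, hAM⟩ := memU_siegel C hu hy
    have := (hx hc0 hc w).conj C hAM
    rw [mv_kr_ten, mv_kr_ten, mv_one, mv_one, Orth.isSiegel_unique hAs hg] at this
    exact this
  · have := ((hx hc0 hc w).smul_left C t).smul C t
    rwa [← ten_smul_left, ← ten_smul_left] at this

/-- Root elements at a singular pure tensor and every orthogonal vector. -/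
theorem sie_pure [Finite F] (C : Ctx Q q₁ q₂ M) (h4 : Fintype.card α ≠ 4) (hR : Root Q q₁ q₂ M)
    {e : α → F} (he0 : e ≠ 0) (he : q₁ e = 0) {c : β → F} (hc0 : c ≠ 0) (hc : q₂ c = 0) {y : α × β → F}
    (hy : pol Q y (ten e c) = 0) : Sie Q M (ten e c) y := by
  obtain ⟨e₂, he₂, hee₂⟩ := exists_pair C.h₁ he0 he
  have hee := pol_self_zero C.h₁ he
  have hperp : ∀ c, c ≠ 0 → q₂ c = 0 → ∀ v, pol q₂ c v = 0 → ∀ u, Sie Q M (ten e c) (ten u v) := by
    intro c hc0 hc v hv u
    have hcc := pol_self_zero C.h₂ hc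
    have hx : Q (ten e c) = 0 := C.q_iso_left he c
    refine eq_top_of_pairs C.h₁ he he₂ hee₂ (S := (sieSub C _ hx).comap (rho v))
      (sie_same C h4 hR he0 he hc0 hc v) (fun d hd hed => ?_) u
    show Sie Q M (ten e c) (ten d v)
    have hd0 : d ≠ 0 := fun h => by rw [h, Orth.pol_zero_right C.h₁] at hed; exact zero_ne_one hed
    have hde : pol q₁ d e = 1 := by rw [Orth.pol_comm, hed]
    have key : ∀ v, pol q₂ c v = 0 → v ∉ Submodule.span F {c} → Sie Q M (ten e c) (ten d v) := by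
      intro v hv hvn
      obtain ⟨φ, hφ, hφ'⟩ := exists_dual hvn
      obtain ⟨a, ha⟩ := Orth.exists_eq_pol C.h₂ φ
      obtain ⟨b, hb, hcb⟩ := exists_pair C.h₂ hc0 hc
      have hac : pol q₂ a c = 0 := by
        rw [Orth.pol_comm, ← ha]; exact hφ c (Submodule.mem_span_singleton_self c)
      have hav : pol q₂ a v = 1 := by rw [Orth.pol_comm, ← ha, hφ']
      set w := b - pol q₂ b v • a with hw
      have hwc : pol q₂ w c = 1 := by
        rw [hw, Orth.pol_sub_left C.h₂, Orth.pol_smul_left C.h₂, hac, Orth.pol_comm b c, hcb]; ring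
      have hwv : pol q₂ w v = 0 := by
        rw [hw, Orth.pol_sub_left C.h₂, Orth.pol_smul_left C.h₂, hav]; ring
      obtain ⟨k, hk, hks⟩ := (sie_same C h4 hR hd0 hd hc0 hc v).2 1
      rw [one_smul] at hks
      have k1 : mv k (ten e c) = ten e c := Orth.isSiegel_fix C.hQ hks
        (by rw [C.hpol, hcc, mul_zero]) (by rw [C.hpol, hv, mul_zero])
      have k2 : mv k (ten e w) = ten e w + ten d v := by
        rw [hks, C.hpol, C.hpol, hed, hwc, hwv, C.q_iso_left hd]
        simp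
      have h1 := (sie_same C h4 hR he0 he hc0 hc w).conj C hk
      rw [k1, k2] at h1
      have h2 := h1.sub C hx (sie_same C h4 hR he0 he hc0 hc w)
      rwa [add_sub_cancel_left] at h2
    by_cases hvn : v ∈ Submodule.span F {c}
    swap
    · exact key v hv hvn
    obtain ⟨v₁, hv₁, hv₁q⟩ := exists_aniso_perp C.h₂ (P := Submodule.span F {c}) (by
      rw [finrank_span_singleton hc0]; have := C.hβ; omega)
    have hv₁c : pol q₂ c v₁ = 0 := hv₁ c (Submodule.mem_span_singleton_self c)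
    have hv₁n : v₁ ∉ Submodule.span F {c} := fun hm => by
      obtain ⟨t, rfl⟩ := Submodule.mem_span_singleton.1 hm
      exact hv₁q (by rw [Orth.q_smul C.h₂, hc, mul_zero])
    have h1 := key (v + v₁) (by rw [Orth.pol_add_right C.h₂, hv, hv₁c, add_zero]) fun hm =>
      hv₁n (by simpa using Submodule.sub_mem _ hm hvn)
    have h2 := h1.sub C hx (key v₁ hv₁c hv₁n)
    rwa [ten_add_right, add_sub_cancel_right] at h2
  have hx : Q (ten e c) = 0 := C.q_iso_left he c
  have hcc := pol_self_zero C.h₂ hc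
  obtain ⟨d, hd, hcd⟩ := exists_pair C.h₂ hc0 hc
  have hdc : pol q₂ d c = 1 := by rw [Orth.pol_comm, hcd]
  have hd0 : d ≠ 0 := fun h => by rw [h, Orth.pol_zero_left C.h₂] at hdc; exact zero_ne_one hdc
  have he₂e : pol q₁ e₂ e = 1 := by rw [Orth.pol_comm, hee₂]
  have hoff : ∀ u, pol q₁ u e = 0 → Sie Q M (ten e c) (ten u d) := by
    intro u hu
    obtain ⟨k, hk, hks⟩ := (hperp d hd0 hd d (pol_self_zero C.h₂ hd) u).2 1
    rw [one_smul] at hks
    have k1 : mv k (ten e c) = ten e c := Orth.isSiegel_fix C.hQ hks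
      (by rw [C.hpol, hee, zero_mul]) (by rw [C.hpol, Orth.pol_comm e u, hu, zero_mul])
    have k2 : mv k (ten e₂ c) = ten e₂ c + (ten u d - (pol q₁ e₂ u) • ten e d) := by
      rw [hks, C.hpol, C.hpol, he₂e, hcd, C.q_iso_right hd]
      simp
      abel
    have h0 := hperp c hc0 hc c hcc e₂
    have h1 := h0.conj C hk
    rw [k1, k2] at h1
    have h2 := h1.sub C hx h0
    rw [add_sub_cancel_left] at h2
    have h3 := h2.add C hx ((sie_same C h4 hR he0 he hc0 hc d).smul C (pol q₁ e₂ u))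
    rwa [sub_add_cancel] at h3
  let L : (α × β → F) →ₗ[F] α × β → F := LinearMap.id - (rho d).comp (pc q₂ c)
  have h1 : Sie Q M (ten e c) (L y) := by
    rw [eq_sum_ten y, map_sum]
    refine Finset.sum_induction _ (Sie Q M (ten e c)) (fun _ _ a b => a.add C hx b) (Sie.zero C _) fun k _ => ?_
    have : L (ten (fun i => y (i, k)) (Pi.single k 1)) =
        ten (fun i => y (i, k)) (Pi.single k 1 - pol q₂ (Pi.single k 1) c • d) := by
      funext p
      simp only [L, LinearMap.sub_apply, LinearMap.id_apply, LinearMap.comp_apply, rho_apply, pc_ten C,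
        Pi.sub_apply, ten, Pi.smul_apply, smul_eq_mul]
      ring
    rw [this]
    exact hperp c hc0 hc _ (by
      rw [Orth.pol_sub_right C.h₂, Orth.pol_smul_right C.h₂, hcd, Orth.pol_comm c]; ring) _
  have h2 := hoff (pc q₂ c y) (by rw [← C.pol_pc, hy])
  have h3 := h1.add C hx h2
  have e1 : L y + ten (pc q₂ c y) d = y := by
    show y - ten (pc q₂ c y) d + _ = y
    rw [sub_add_cancel]
  rwa [e1] at h3

/-- One root element gives the whole commutator subgroup. -/
theorem eq_omega_of_root [Finite F] (hn : 11 ≤ Fintype.card (α × β)) (h4 : Fintype.card α ≠ 4)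
    (C : Ctx Q q₁ q₂ M) (hR : Root Q q₁ q₂ M) (hM : M ≤ Geo.omegaGL Q) : M = Geo.omegaGL Q := by
  refine Orth.eq_omega C.hQ (le_trans (by norm_num) hn) hM fun u y hu huy => ?_
  by_cases hu0 : u = 0
  · refine ⟨1, M.one_mem, fun z => ?_⟩
    rw [mv_one, hu0, Orth.pol_zero_right C.hQ]
    simp
  obtain ⟨v, z, hv, hz, hp⟩ : ∃ v z, q₁ v = 0 ∧ q₂ z = 0 ∧ pol Q u (ten v z) ≠ 0 := by
    by_contra hcon
    push Not at hcon
    refine hu0 (eq_zero_of_orth C.hQ fun x => ?_)
    have h0 : ∀ v z, pol Q u (ten v z) = 0 := by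
      intro v
      let S : Submodule F (α → F) :=
        { carrier := {v | ∀ z, pol Q u (ten v z) = 0}
          add_mem' := fun {a b} ha hb z => by rw [ten_add_left, Orth.pol_add_right C.hQ, ha z, hb z, add_zero]
          zero_mem' := fun z => by rw [ten_zero_left, Orth.pol_zero_right C.hQ]
          smul_mem' := fun t a ha z => by rw [ten_smul_left, Orth.pol_smul_right C.hQ, ha z, mul_zero] }
      refine eq_top_of_singular C.h₁ (S := S) C.hα (fun v hv0 hv z => ?_) v
      let T : Submodule F (β → F) :=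
        { carrier := {z | pol Q u (ten v z) = 0}
          add_mem' := fun {a b} ha hb => by
            show pol Q u (ten v (a + b)) = 0
            rw [ten_add_right, Orth.pol_add_right C.hQ, show pol Q u (ten v a) = 0 from ha,
              show pol Q u (ten v b) = 0 from hb, add_zero]
          zero_mem' := by
            show pol Q u (ten v 0) = 0
            rw [ten_zero_right, Orth.pol_zero_right C.hQ]
          smul_mem' := fun t a ha => by
            show pol Q u (ten v (t • a)) = 0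
            rw [ten_smul_right, Orth.pol_smul_right C.hQ, show pol Q u (ten v a) = 0 from ha, mul_zero] }
      exact eq_top_of_singular C.h₂ (S := T) (by have := C.hβ; omega) (fun z _ hz => hcon v z hv hz) z
    rw [Orth.pol_comm]
    exact LinearMap.congr_fun (ext_ten (f := Orth.formQ C.hQ u) (g := 0) fun a b => by
      rw [Orth.formQ_apply, Orth.pol_comm, h0, LinearMap.zero_apply]) x
  have hv0 : v ≠ 0 := fun h => hp (by rw [h, ten_zero_left, Orth.pol_zero_right C.hQ])
  have hz0 : z ≠ 0 := fun h => hp (by rw [h, ten_zero_right, Orth.pol_zero_right C.hQ])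
  obtain ⟨l, hl⟩ : ∃ l, l = (pol Q u (ten v z))⁻¹ := ⟨_, rfl⟩
  have hl0 : l ≠ 0 := hl ▸ inv_ne_zero hp
  have hu1 : pol Q (l • u) (ten v z) = 1 := by
    rw [Orth.pol_smul_left C.hQ, hl, inv_mul_cancel₀ hp]
  obtain ⟨v', hv', hvv'⟩ := exists_pair C.h₁ hv0 hv
  obtain ⟨z', hz', hzz'⟩ := exists_pair C.h₂ hz0 hz
  have hd' : pol Q (ten v' z') (ten v z) = 1 := by
    rw [C.hpol, Orth.pol_comm v' v, hvv', Orth.pol_comm z' z, hzz', mul_one]
  obtain ⟨yy, hyy, -, hmove⟩ := Orth.exists_move_along C.hQ (v := ten v z) (u := l • u) (w := ten v' z')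
    (C.q_iso_left hv z) (by rw [Orth.q_smul C.hQ, hu, C.q_iso_left hv', mul_zero]) hu1 hd'
  obtain ⟨g, hg, hgs⟩ := (sie_pure C h4 hR hv0 hv hz0 hz (by rw [Orth.pol_comm, hyy])).2 1
  rw [one_smul] at hgs
  have hgu : mv g (l • u) = ten v' z' := hmove g hgs
  have hv'0 : v' ≠ 0 := fun h => by rw [h, Orth.pol_zero_right C.h₁] at hvv'; exact zero_ne_one hvv'
  have hz'0 : z' ≠ 0 := fun h => by rw [h, Orth.pol_zero_right C.h₂] at hzz'; exact zero_ne_one hzz'
  have h1 := sie_pure C h4 hR hv'0 hv' hz'0 hz' (y := mv g y) (by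
    rw [← hgu, C.iso hg, Orth.pol_smul_right C.hQ, Orth.pol_comm, huy, mul_zero])
  have h2 := h1.conj C (M.inv_mem hg)
  rw [← hgu, mv_inv_mv, mv_inv_mv] at h2
  obtain ⟨e, he, hes⟩ := h2.2 l⁻¹
  refine ⟨e, he, fun w => ?_⟩
  rw [hes, Orth.q_smul C.hQ]
  simp only [Orth.pol_smul_right C.hQ, smul_smul]
  field_simp

end Cfsg.Agent.OrthTensor
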