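/-
When centres and middles are trivial, a member of p-power order fixing a singular line pointwise is a
Kronecker product, and Kronecker conjugates of shears come from members sending lines to lines.
-/
import Cfsg.Agent.Lib.OrthTensor.Base
import Cfsg.Agent.Lib.TensorMax.ULine

set_option autoImplicit false
set_option linter.unusedSectionVars false

namespace Cfsg.Agent.OrthTensor

open scoped Matrix Kronecker
open Matrix Cfsg.Agent.Transvec Cfsg.Agent.TensorMax
open Cfsg.Agent.TensorMax.U (kr mv_kr_ten isKron_kr isKron_mul isKron_inv mv_kron_ten ext_ten_mv)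
open Cfsg.Agent.Transvec.Orth (pol IsSiegel)

variable {α β : Type} [Fintype α] [DecidableEq α] [Fintype β] [DecidableEq β] {F : Type*} [Field F]
variable {Q : (α × β → F) → F} {q₁ : (α → F) → F} {q₂ : (β → F) → F}
variable {M : Subgroup (GL (α × β) F)}

/-- A member of p-power order fixing a singular line pointwise is a Kronecker product. -/
theorem kron_of_fix [Finite F] (C : Ctx Q q₁ q₂ M) (hC : CentreTriv q₂ M) (hMid : MiddleShear q₂ M)
    {p : ℕ} (hodd : Odd p) {h : GL (α × β) F} (hh : h ∈ M) (hp : h ^ p = 1)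
    {c : β → F} (hc0 : c ≠ 0) (hc : q₂ c = 0) (hfix : ∀ u, mv h (ten u c) = ten u c) : IsKron h := by
  classical
  haveI : Nonempty α := Fintype.card_pos_iff.1 (by have := C.hα; omega)
  obtain ⟨d, hd, hcd⟩ := exists_pair C.h₂ hc0 hc
  have hcc := pol_self_zero C.h₂ hc
  have hdd := pol_self_zero C.h₂ hd
  have hdc : pol q₂ d c = 1 := by rw [Orth.pol_comm, hcd]
  have hfixi : ∀ u, mv h⁻¹ (ten u c) = ten u c := fun u => by rw [mv_eq_iff, inv_inv, hfix]
  have hperp : ∀ x, pc q₂ c (mv h x) = pc q₂ c x := disp_perp C (C.le hh) hfix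
  have hperpi : ∀ x, pc q₂ c (mv h⁻¹ x) = pc q₂ c x := disp_perp C (C.le (M.inv_mem hh)) hfixi
  -- contractions of the image
  have hrel : ∀ v, pol q₂ c v = 0 → ∃ φ : β → F,
      ∀ x, pc q₂ c x = 0 → pc q₂ v (mv h x) = ctr φ x := by
    intro v hv
    obtain ⟨E, hE, -, hEx⟩ := exists_shear C hc hv
    have hEperp : ∀ x, pc q₂ c x = 0 → mv E x = x - ten (pc q₂ v x) c := fun x hx => by
      rw [hEx, hx, ten_zero_left, smul_zero, add_zero, add_zero]
    have hEu : ∀ u, mv E (ten u c) = ten u c := fun u => by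
      rw [hEperp _ (pc_ten_self C hc u), pc_ten C, hv, zero_smul, ten_zero_left, sub_zero]
    have hk : ∀ x, pc q₂ c x = 0 →
        mv (h⁻¹ * E * h) x = x - ten (pc q₂ v (mv h x)) c := fun x hx => by
      rw [mv_mul, mv_mul, hEperp _ (by rw [hperp, hx]), mv_sub, mv_inv_mv, hfixi]
    obtain ⟨w, -, hw⟩ := hMid c hc0 hc (h⁻¹ * E * h)
      (M.mul_mem (M.mul_mem (M.inv_mem hh) hE) hh)
      (fun u => by rw [mv_mul, mv_mul, hfix, hEu, hfixi])
      (fun x hx => by
        rw [hk x hx, sub_sub_cancel_left]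
        exact Submodule.neg_mem _ (ten_mem_line _ _))
    refine ⟨row q₂ w, fun x hx => ?_⟩
    have e := hw x hx
    rw [hk x hx, sub_right_inj] at e
    exact rho_injective hc0 e
  -- the middle map
  obtain ⟨i₀⟩ := ‹Nonempty α›
  set us : α → F := Pi.single i₀ 1
  have husus : us ⬝ᵥ us = 1 := by simp [us]
  set Γ : (β → F) →ₗ[F] β → F := (ctrL us).comp ((mvLin h).comp (lam us)) with hΓ
  have hΓapp : ∀ v, Γ v = ctrL us (mv h (ten us v)) := fun v => by
    show ctrL us (mvLin h (ten us v)) = _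
    rw [Matrix.toLin'_apply]
  have hmid : ∀ v, pol q₂ v c = 0 → ∀ u, mv h (ten u v) - ten u (Γ v) ∈ line α c := by
    intro v hv u
    refine mem_line_of_pc C hc0 fun w hw => ?_
    obtain ⟨φ, hφ⟩ := hrel w hw
    have hv' : ∀ u' : α → F, pc q₂ c (ten u' v) = 0 := fun u' => by rw [pc_ten C, hv, zero_smul]
    have e : row q₂ w ⬝ᵥ Γ v = φ ⬝ᵥ v := by
      rw [hΓapp, dot_ctrL, show ctr (row q₂ w) (mv h (ten us v)) = ctr φ (ten us v) from hφ _ (hv' us),
        ctr_ten, dotProduct_smul, husus, smul_eq_mul, mul_one]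
    rw [map_sub, hφ _ (hv' u), ctr_ten, pc_ten C, ← row_dot C.h₂, e, sub_self]
  have hΓc : ∀ v, pol q₂ v c = 0 → pol q₂ (Γ v) c = 0 := fun v hv => by
    have h1 : pc q₂ c (mv h (ten us v) - ten us (Γ v)) = 0 := pc_line C hcc (hmid v hv us)
    rw [map_sub, hperp, pc_ten C, pc_ten C, hv, zero_smul, zero_sub, neg_eq_zero] at h1
    exact (smul_eq_zero.1 h1).resolve_right (by simp [us])
  have hiso : ∀ v z, pol q₂ v c = 0 → pol q₂ z c = 0 → pol q₂ (Γ v) (Γ z) = pol q₂ v z := by
    intro v z hv hz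
    obtain ⟨b, hb⟩ : ∃ b, pol q₁ us b ≠ 0 := by
      by_contra hcon
      push Not at hcon
      have := congrFun (eq_zero_of_orth C.h₁ hcon) i₀
      simp [us] at this
    obtain ⟨r, hr⟩ := mem_line.1 (hmid v hv us)
    obtain ⟨r', hr'⟩ := mem_line.1 (hmid z hz b)
    have e := C.iso hh (ten us v) (ten b z)
    rw [show mv h (ten us v) = ten us (Γ v) + ten r c by rw [hr]; abel,
      show mv h (ten b z) = ten b (Γ z) + ten r' c by rw [hr']; abel] at e
    simp only [Orth.pol_add_left C.hQ, Orth.pol_add_right C.hQ, C.hpol, hΓc v hv, hcc,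
      Orth.pol_comm c (Γ z), hΓc z hz, mul_zero, add_zero] at e
    exact mul_left_cancel₀ hb e
  -- the isometry of the second factor
  obtain ⟨π, hπapp⟩ : ∃ π : (β → F) →ₗ[F] β → F, ∀ w, π w = w - pol q₂ w d • c - pol q₂ w c • d :=
    ⟨LinearMap.id - LinearMap.smulRight (Orth.formQ C.h₂ d) c - LinearMap.smulRight (Orth.formQ C.h₂ c) d,
      fun w => rfl⟩
  have hπ : ∀ w, pol q₂ (π w) c = 0 ∧ pol q₂ (π w) d = 0 := fun w => by
    rw [hπapp]; exact pair_decomp C.h₂ hc hd hcd w
  obtain ⟨Bl, hBl⟩ : ∃ Bl : (β → F) →ₗ[F] β → F, ∀ w, Bl w =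
      pol q₂ w d • c + pol q₂ w c • d + (Γ (π w) - pol q₂ (Γ (π w)) d • c) :=
    ⟨LinearMap.smulRight (Orth.formQ C.h₂ d) c + LinearMap.smulRight (Orth.formQ C.h₂ c) d +
      (Γ.comp π - (LinearMap.smulRight (Orth.formQ C.h₂ d) c).comp (Γ.comp π)), fun w => rfl⟩
  have hnc : ∀ w, pol q₂ (Bl w) c = pol q₂ w c := fun w => by
    rw [hBl]
    simp only [Orth.pol_add_left C.h₂, Orth.pol_sub_left C.h₂, Orth.pol_smul_left C.h₂, hcc, hdc,
      hΓc _ (hπ w).1]
    ring
  have hnd : ∀ w, pol q₂ (Bl w) d = pol q₂ w d := fun w => by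
    rw [hBl]
    simp only [Orth.pol_add_left C.h₂, Orth.pol_sub_left C.h₂, Orth.pol_smul_left C.h₂, hcd, hdd]
    ring
  have hpolB : ∀ v w, pol q₂ (Bl v) (Bl w) = pol q₂ v w := by
    intro v w
    have hs : ∀ z, Γ (π z) = Bl z - pol q₂ z d • c - pol q₂ z c • d + pol q₂ (Γ (π z)) d • c := fun z => by
      rw [hBl]; abel
    have e := hiso _ _ (hπ v).1 (hπ w).1
    rw [hs v, hs w, hπapp, hπapp] at e
    simp only [Orth.pol_add_left C.h₂, Orth.pol_add_right C.h₂, Orth.pol_sub_left C.h₂,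
      Orth.pol_sub_right C.h₂, Orth.pol_smul_left C.h₂, Orth.pol_smul_right C.h₂, hnc, hnd,
      Orth.pol_comm c (Bl w), Orth.pol_comm d (Bl w), hcc, hdd, hcd, hdc,
      Orth.pol_comm c w, Orth.pol_comm d w] at e
    linear_combination e
  have hinj : Function.Injective Bl := LinearMap.ker_eq_bot.1 (LinearMap.ker_eq_bot'.2 fun w hw =>
    eq_zero_of_orth C.h₂ fun v => by rw [← hpolB, hw, Orth.pol_zero_left C.h₂])
  have hdet : (LinearMap.toMatrix' Bl).det ≠ 0 := by
    rw [LinearMap.det_toMatrix']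
    exact (LinearEquiv.isUnit_det' (LinearEquiv.ofInjectiveEndo Bl hinj)).ne_zero
  set B : GL β F := Matrix.GeneralLinearGroup.mkOfDetNeZero _ hdet with hBdef
  have hmvB : ∀ w, mv B w = Bl w := fun w => LinearMap.toMatrix'_mulVec Bl w
  have hBiso : B ∈ isometryGroup F q₂ := Orth.mem_isometry.2 fun w => by
    refine mul_left_cancel₀ C.two ?_
    rw [← Orth.pol_self C.h₂, ← Orth.pol_self C.h₂, hmvB, hpolB]
  have hBc : mv B c = c := by
    rw [hmvB, hBl, hcd, hcc]
    simp [hπapp, hcd, hcc, Orth.pol_zero_left C.h₂]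
  have hBd : mv B d = d := by
    rw [hmvB, hBl, hdd, hdc]
    simp [hπapp, hdd, hdc, Orth.pol_zero_left C.h₂]
  have hBW : ∀ w, pol q₂ w c = 0 → pol q₂ w d = 0 →
      pol q₂ (mv B w) c = 0 ∧ pol q₂ (mv B w) d = 0 := fun w h1 h2 => by
    rw [hmvB, hnc, hnd]; exact ⟨h1, h2⟩
  have hBmid : ∀ w, pol q₂ w c = 0 → pol q₂ w d = 0 → ∀ u, mv h (ten u w) - ten u (mv B w) ∈ line α c := by
    intro w h1 h2 u
    have e : mv B w = Γ w - pol q₂ (Γ w) d • c := by
      rw [hmvB, hBl, show π w = w by rw [hπapp, h1, h2]; simp, h1, h2]; simp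
    rw [e, show mv h (ten u w) - ten u (Γ w - pol q₂ (Γ w) d • c) =
      (mv h (ten u w) - ten u (Γ w)) + ten (pol q₂ (Γ w) d • u) c by
        rw [ten_smul_left, ← ten_smul_right, sub_eq_add_neg (Γ w), ten_add_right, ten_smul_right,
          ← neg_one_smul F (pol q₂ (Γ w) d • c), ten_smul_right, ten_smul_right]; module]
    exact Submodule.add_mem _ (hmid w h1 u) (ten_mem_line _ _)
  have hiter : ∀ (n : ℕ) (w : β → F), pol q₂ w c = 0 → pol q₂ w d = 0 → ∀ u,
      mv (h ^ n) (ten u w) - ten u (mv (B ^ n) w) ∈ line α c ∧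
      pol q₂ (mv (B ^ n) w) c = 0 ∧ pol q₂ (mv (B ^ n) w) d = 0 := by
    intro n
    induction n with
    | zero => intro w h1 h2 u; exact ⟨by simp [mv_one], by rwa [pow_zero, mv_one], by rwa [pow_zero, mv_one]⟩
    | succ n ih =>
      intro w h1 h2 u
      obtain ⟨ha, hb, hb'⟩ := ih w h1 h2 u
      obtain ⟨r, hr⟩ := mem_line.1 ha
      rw [pow_succ' h, pow_succ' B, mv_mul, mv_mul]
      refine ⟨?_, hBW _ hb hb'⟩
      rw [show mv (h ^ n) (ten u w) = ten u (mv (B ^ n) w) + ten r c by rw [hr]; abel, mv_add, hfix,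
        add_sub_right_comm]
      exact Submodule.add_mem _ (hBmid _ hb hb' u) (ten_mem_line _ _)
  have hBp : B ^ p = 1 := by
    refine ext_mv fun w => ?_
    have hfixc : ∀ n, mv (B ^ n) c = c ∧ mv (B ^ n) d = d := fun n => by
      induction n with
      | zero => exact ⟨mv_one _, mv_one _⟩
      | succ n ih => rw [pow_succ, mv_mul, mv_mul, hBc, hBd]; exact ih
    obtain ⟨h1, h2⟩ := hπ w
    obtain ⟨ha, hb, hb'⟩ := hiter p (π w) h1 h2 us
    rw [hp, mv_one] at ha
    have hb0 : π w - mv (B ^ p) (π w) ∈ Submodule.span F {c} := by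
      obtain ⟨r, hr⟩ := mem_line.1 ha
      have e := congrArg (ctrL us) hr
      rw [map_sub, ctrL_ten, ctrL_ten, ctrL_ten, husus, one_smul, one_smul] at e
      exact Submodule.mem_span_singleton.2 ⟨_, e⟩
    obtain ⟨t, ht⟩ := Submodule.mem_span_singleton.1 hb0
    have ht0 : t = 0 := by
      have e := congrArg (fun z => pol q₂ z d) ht
      simp only [Orth.pol_smul_left C.h₂, Orth.pol_sub_left C.h₂, h2, hb', hcd, sub_zero, mul_one] at e
      exact e
    rw [ht0, zero_smul, eq_comm, sub_eq_zero] at ht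
    rw [mv_one]
    conv_lhs => rw [show w = π w + pol q₂ w d • c + pol q₂ w c • d by rw [hπapp]; abel]
    rw [mv_add, mv_add, mv_smul, mv_smul, (hfixc p).1, (hfixc p).2, ← ht, hπapp]
    abel
  have hT : kr (1 : GL α F) B ∈ M :=
    C.memW B hBiso (hodd.of_dvd_nat (orderOf_dvd_of_pow_eq_one hBp))
  set T := kr (1 : GL α F) B
  -- the remaining middle is trivial
  have hk : T⁻¹ * h ∈ M := M.mul_mem (M.inv_mem hT) hh
  have hTc : ∀ u, mv T⁻¹ (ten u c) = ten u c := fun u => by
    rw [mv_eq_iff, inv_inv, mv_kr_ten, mv_one, hBc]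
  have hkfix : ∀ u, mv (T⁻¹ * h) (ten u c) = ten u c := fun u => by rw [mv_mul, hfix, hTc]
  have hkmid : ∀ x, pc q₂ c x = 0 → mv (T⁻¹ * h) x - x ∈ line α c := by
    intro x hx
    let P : (α × β → F) →ₗ[F] α × β → F := LinearMap.id - (rho d).comp (pc q₂ c)
    obtain ⟨L, hL⟩ : ∃ L : (α × β → F) →ₗ[F] α × β → F, ∀ y, L y = mv (T⁻¹ * h) y - y :=
      ⟨mvLin (T⁻¹ * h) - LinearMap.id, fun y => by
        rw [LinearMap.sub_apply, Matrix.toLin'_apply, LinearMap.id_apply]⟩
    have hPx : P x = x := by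
      show x - ten (pc q₂ c x) d = x
      rw [hx, ten_zero_left, sub_zero]
    rw [← hL, ← hPx, eq_sum_ten x, map_sum, map_sum]
    refine Submodule.sum_mem _ fun k _ => ?_
    set u : α → F := fun i => x (i, k)
    set w : β → F := Pi.single k 1
    have hP : P (ten u w) = ten u (π w) + ten (pol q₂ w d • u) c := by
      show ten u w - ten (pc q₂ c (ten u w)) d = _
      rw [pc_ten C, hπapp]
      funext i
      simp [ten]
      ring
    obtain ⟨h1, h2⟩ := hπ w
    obtain ⟨r, hr⟩ := mem_line.1 (hBmid _ h1 h2 u)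
    rw [hP, map_add, hL, hL, hkfix, sub_self, add_zero, mv_mul,
      show mv h (ten u (π w)) = ten u (mv B (π w)) + ten r c by rw [hr]; abel, mv_add, hTc,
      show mv T⁻¹ (ten u (mv B (π w))) = ten u (π w) by rw [mv_eq_iff, inv_inv, mv_kr_ten, mv_one],
      add_sub_cancel_left]
    exact ten_mem_line _ _
  obtain ⟨v, hv, hvx⟩ := hMid c hc0 hc _ hk hkfix hkmid
  obtain ⟨E, hE, hEk, hEx⟩ := exists_shear C hc hv
  have h1 : E⁻¹ * (T⁻¹ * h) = 1 := hC c hc0 hc _ (M.mul_mem (M.inv_mem hE) hk) fun x hx => by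
    rw [mv_mul, mv_eq_iff, inv_inv, hvx x hx, hEx, hx, ten_zero_left, smul_zero, add_zero, add_zero]
  rw [show h = T * E by
    calc h = T * (E * (E⁻¹ * (T⁻¹ * h))) := by group
    _ = T * E := by rw [h1, mul_one]]
  exact isKron_mul (isKron_kr _ _) hEk

/-- A Kronecker product moving a subspace of dimension less than that of the second factor is scalar
in the first factor. -/
theorem scalar_of_small [Nonempty α] {h : GL (α × β) F} {A : GL α F} {B : GL β F}
    (hAB : ∀ u w, mv h (ten u w) = ten (mv A u) (mv B w))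
    (hr : Module.finrank F (LinearMap.range (mvLin h - LinearMap.id)) < Fintype.card β) :
    ∃ r : F, ∀ u, mv A u = r • u := by
  classical
  set X := mvLin h - LinearMap.id with hX
  have hXt : ∀ u w, X (ten u w) = ten (mv A u) (mv B w) - ten u w := fun u w => by
    rw [hX, LinearMap.sub_apply, Matrix.toLin'_apply, LinearMap.id_apply]
    show mv h (ten u w) - _ = _
    rw [hAB]
  have hA : ∀ u, mv A u ∈ Submodule.span F {u} := by
    intro u
    by_contra hu
    obtain ⟨ψ, hψ, hψ'⟩ := exists_dot hu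
    have hψu : ψ ⬝ᵥ u = 0 := hψ u (Submodule.mem_span_singleton_self u)
    have hinj : Function.Injective (X.rangeRestrict.comp (lam u)) := by
      rw [← LinearMap.ker_eq_bot, LinearMap.ker_eq_bot']
      intro w hw
      have e : X (ten u w) = 0 := congrArg Subtype.val hw
      rw [hXt, sub_eq_zero] at e
      have := congrArg (ctrL ψ) e
      rw [ctrL_ten, ctrL_ten, hψ', hψu, one_smul, zero_smul] at this
      exact mv_inj B (this.trans (mv_zero B).symm)
    have := LinearMap.finrank_le_finrank_of_injective hinj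
    rw [Module.finrank_fintype_fun_eq_card] at this
    omega
  obtain ⟨i₀⟩ := ‹Nonempty α›
  set e₀ : α → F := Pi.single i₀ 1
  have he₀ : e₀ ≠ 0 := by simp [e₀]
  obtain ⟨r, hr⟩ := Submodule.mem_span_singleton.1 (hA e₀)
  refine ⟨r, fun u => ?_⟩
  by_cases hu : u ∈ Submodule.span F {e₀}
  · obtain ⟨b, rfl⟩ := Submodule.mem_span_singleton.1 hu
    rw [mv_smul, ← hr, smul_comm]
  · obtain ⟨t, ht⟩ := Submodule.mem_span_singleton.1 (hA u)
    obtain ⟨s, hs⟩ := Submodule.mem_span_singleton.1 (hA (e₀ + u))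
    rw [mv_add, ← hr, ← ht, smul_add] at hs
    have e1 : (s - t) • u = (r - s) • e₀ := by
      rw [sub_smul, sub_smul, sub_eq_sub_iff_add_eq_add, add_comm (s • u), hs]
    have hst : s = t := by
      by_contra h
      exact hu (Submodule.mem_span_singleton.2 ⟨(s - t)⁻¹ * (r - s), by
        rw [mul_smul, ← e1, smul_smul, inv_mul_cancel₀ (sub_ne_zero.2 h), one_smul]⟩)
    rw [hst, sub_self, zero_smul, eq_comm, smul_eq_zero, sub_eq_zero] at e1
    rw [← ht, e1.resolve_right he₀]

/-- A Kronecker product acting on the second factor alone moves along a line. -/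
theorem line_le_range {h : GL (α × β) F} {Γ : (β → F) →ₗ[F] β → F}
    (hΓ : ∀ u w, mv h (ten u w) = ten u w + ten u (Γ w)) (w : β → F) :
    line α (Γ w) ≤ LinearMap.range (mvLin h - LinearMap.id) := by
  intro x hx
  obtain ⟨u, rfl⟩ := mem_line.1 hx
  refine ⟨ten u w, ?_⟩
  rw [LinearMap.sub_apply, Matrix.toLin'_apply, LinearMap.id_apply]
  show mv h (ten u w) - _ = _
  rw [hΓ, add_sub_cancel_left]

/-- A Kronecker element of p-power order moving a space of dimension at most twice that of the first factor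
acts on the second factor alone. -/
theorem second_factor [Finite F] (C : Ctx Q q₁ q₂ M) {p : ℕ} [Fact p.Prime] [CharP F p]
    {h : GL (α × β) F} (hI : h ∈ isometryGroup F Q) (hk : IsKron h) (hp : h ^ p = 1)
    (hr : Module.finrank F (LinearMap.range (mvLin h - LinearMap.id)) ≤ 2 * Fintype.card α) :
    ∃ Γ : (β → F) →ₗ[F] β → F, ∀ u w, mv h (ten u w) = ten u w + ten u (Γ w) := by
  classical
  haveI : Nonempty α := Fintype.card_pos_iff.1 (by have := C.hα; omega)
  haveI : Nonempty β := Fintype.card_pos_iff.1 (by have := C.hβ; omega)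
  haveI : Fintype F := Fintype.ofFinite F
  haveI : PerfectRing F p := PerfectRing.ofFiniteOfIsReduced p F
  obtain ⟨A, B, hAB⟩ := mv_kron_ten hk
  have hpow : ∀ (n : ℕ) (u : α → F) (w : β → F), mv (h ^ n) (ten u w) = ten (mv (A ^ n) u) (mv (B ^ n) w) := by
    intro n
    induction n with
    | zero => intro u w; simp [mv_one]
    | succ n ih => intro u w; rw [pow_succ', mv_mul, ih, hAB, pow_succ', pow_succ', mv_mul, mv_mul]
  obtain ⟨j₀⟩ := ‹Nonempty β›
  obtain ⟨θ, hθ⟩ := exists_dot_one (c := (Pi.single j₀ 1 : β → F)) (by simp)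
  obtain ⟨i₀⟩ := ‹Nonempty α›
  -- the first factor has scalar power
  have hl : ∀ u, u = (θ ⬝ᵥ mv (B ^ p) (Pi.single j₀ 1)) • mv (A ^ p) u := fun u => by
    have e := congrArg (ctr θ) (hpow p u (Pi.single j₀ 1))
    rwa [hp, mv_one, ctr_ten, ctr_ten, hθ, one_smul] at e
  obtain ⟨k, hkdef⟩ : ∃ k, k = θ ⬝ᵥ mv (B ^ p) (Pi.single j₀ 1) := ⟨_, rfl⟩
  simp only [← hkdef] at hl
  have hk0 : k ≠ 0 := fun h0 => by
    have := congrFun (hl (Pi.single i₀ 1)) i₀
    simp [h0] at this
  obtain ⟨μ, hμ⟩ : ∃ μ : F, μ ^ p = k := ⟨(frobeniusEquiv F p).symm k, frobeniusEquiv_symm_pow_p F p _⟩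
  have hμ0 : μ ≠ 0 := fun h0 => hk0 (by rw [← hμ, h0, zero_pow (Fact.out : p.Prime).ne_zero])
  -- rescale
  set Al : Module.End F (α → F) := μ • mvLin A with hAl
  set Bl : (β → F) →ₗ[F] β → F := μ⁻¹ • mvLin B with hBl
  have hAB' : ∀ u w, mv h (ten u w) = ten (Al u) (Bl w) := fun u w => by
    simp only [hAl, hBl, LinearMap.smul_apply, Matrix.toLin'_apply]
    rw [ten_smul_left, ten_smul_right, smul_smul, mul_inv_cancel₀ hμ0, one_smul]
    exact hAB u w
  have hApow : ∀ (n : ℕ) u, (Al ^ n) u = μ ^ n • mv (A ^ n) u := by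
    intro n
    induction n with
    | zero => intro u; simp [mv_one]
    | succ n ih =>
      intro u
      rw [pow_succ', Module.End.mul_apply, ih, map_smul, hAl, LinearMap.smul_apply, Matrix.toLin'_apply,
        smul_smul, pow_succ' A, mv_mul, ← pow_succ]
  have hAp : Al ^ p = 1 := LinearMap.ext fun u => by
    rw [hApow, hμ, ← hl u]; rfl
  haveI : CharP (Module.End F (α → F)) p :=
    charP_of_injective_algebraMap (algebraMap F (Module.End F (α → F))).injective p
  set N : Module.End F (α → F) := Al - 1 with hN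
  have hNp : N ^ p = 0 := by rw [hN, sub_pow_char_of_commute p (Commute.one_right Al), one_pow, hAp, sub_self]
  have hAN : ∀ u, Al u = u + N u := fun u => by rw [hN]; simp
  -- two moved vectors force too much
  have hone : ∀ y, N y = 0 → y ≠ 0 → y ∈ LinearMap.range N → ∀ u, N u ∈ Submodule.span F {y} := by
    intro y₁ hy₁ hy₁0 hy₁R
    by_contra hcon
    push Not at hcon
    -- a vector of the range mapped into the line of y₁
    obtain ⟨y₂, hy₂R, hy₂, hy₂'⟩ : ∃ y₂ ∈ LinearMap.range N,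
        y₂ ∉ Submodule.span F {y₁} ∧ N y₂ ∈ Submodule.span F {y₁} := by
      obtain ⟨u, hu⟩ := hcon
      have hex : ∃ n : ℕ, (N ^ (n + 1)) u ∈ Submodule.span F {y₁} :=
        ⟨p, by rw [pow_succ, Module.End.mul_apply, hNp]; exact Submodule.zero_mem _⟩
      obtain ⟨n, hn⟩ : ∃ n, Nat.find hex = n := ⟨_, rfl⟩
      have hspec := Nat.find_spec hex
      rw [hn] at hspec
      cases n with
      | zero => exact absurd (by simpa using hspec) hu
      | succ n =>
        refine ⟨(N ^ (n + 1)) u, ⟨(N ^ n) u, by rw [pow_succ', Module.End.mul_apply]⟩,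
          Nat.find_min hex (by omega), ?_⟩
        rwa [← Module.End.mul_apply, ← pow_succ']
    obtain ⟨δ, hδ⟩ := Submodule.mem_span_singleton.1 hy₂'
    obtain ⟨u₂, hu₂⟩ := hy₂R
    obtain ⟨u₁, hu₁, hu₁δ⟩ : ∃ u₁, N u₁ = y₁ ∧ (δ ≠ 0 → y₂ = δ • u₁) := by
      by_cases hδ0 : δ = 0
      · obtain ⟨u₁, hu₁⟩ := hy₁R
        exact ⟨u₁, hu₁, fun h => absurd hδ0 h⟩
      · exact ⟨δ⁻¹ • y₂, by rw [map_smul, ← hδ, smul_smul, inv_mul_cancel₀ hδ0, one_smul],
          fun _ => by rw [smul_smul, mul_inv_cancel₀ hδ0, one_smul]⟩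
    have hy₂0 : y₂ ≠ 0 := fun h0 => hy₂ (h0 ▸ Submodule.zero_mem _)
    have h₁ : y₁ ∉ Submodule.span F ({u₁, u₂, y₂} : Set (α → F)) := by
      intro hm
      obtain ⟨a, z, hz, e⟩ := Submodule.mem_span_insert.1 hm
      obtain ⟨b, g, rfl⟩ := Submodule.mem_span_pair.1 hz
      have e' := congrArg N e
      simp only [map_add, map_smul, hy₁, hu₁, hu₂, ← hδ] at e'
      have hb : b = 0 := by
        by_contra hb
        exact hy₂ (Submodule.mem_span_singleton.2 ⟨-(b⁻¹ * (a + g * δ)), by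
          rw [neg_smul, mul_smul, ← smul_neg, show -((a + g * δ) • y₁) = b • y₂ by
            linear_combination (norm := module) e', smul_smul, inv_mul_cancel₀ hb, one_smul]⟩)
      rw [hb, zero_smul, zero_add] at e'
      have hag : a + g * δ = 0 := by
        by_contra h0
        exact hy₁0 ((smul_eq_zero.1 (show (a + g * δ) • y₁ = 0 by
          linear_combination (norm := module) -e')).resolve_left h0)
      rw [hb, zero_smul, zero_add] at e
      by_cases hδ0 : δ = 0
      · rw [hδ0, mul_zero, add_zero] at hag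
        rw [hag, zero_smul, zero_add] at e
        rcases eq_or_ne g 0 with hg | hg
        · exact hy₁0 (by rw [e, hg, zero_smul])
        · exact hy₂ (Submodule.mem_span_singleton.2 ⟨g⁻¹, by rw [e, smul_smul, inv_mul_cancel₀ hg, one_smul]⟩)
      · rw [hu₁δ hδ0, smul_smul, ← add_smul, hag, zero_smul] at e
        exact hy₁0 e
    have h₂ : y₂ ∉ Submodule.span F {u₂} := by
      intro hm
      obtain ⟨s, hs⟩ := Submodule.mem_span_singleton.1 hm
      have e := congrArg N hs
      rw [map_smul, hu₂, ← hδ] at e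
      rcases eq_or_ne s 0 with hs0 | hs0
      · exact hy₂0 (by rw [← hs, hs0, zero_smul])
      · exact hy₂ (Submodule.mem_span_singleton.2 ⟨s⁻¹ * δ, by
          rw [mul_smul, ← e, smul_smul, inv_mul_cancel₀ hs0, one_smul]⟩)
    obtain ⟨ψ₁, hψ₁, hψ₁'⟩ := exists_dot h₁
    obtain ⟨ψ₂, hψ₂, hψ₂'⟩ := exists_dot h₂
    have a1 : ψ₁ ⬝ᵥ u₁ = 0 := hψ₁ _ (Submodule.subset_span (Set.mem_insert _ _))
    have a2 : ψ₁ ⬝ᵥ u₂ = 0 :=
      hψ₁ _ (Submodule.subset_span (Set.mem_insert_of_mem _ (Set.mem_insert _ _)))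
    have a3 : ψ₁ ⬝ᵥ y₂ = 0 :=
      hψ₁ _ (Submodule.subset_span (Set.mem_insert_of_mem _ (Set.mem_insert_of_mem _ rfl)))
    have a4 : ψ₂ ⬝ᵥ u₂ = 0 := hψ₂ _ (Submodule.mem_span_singleton_self u₂)
    set X := mvLin h - LinearMap.id
    have hBinj : ∀ w, Bl w = 0 → w = 0 := fun w hw => by
      rw [hBl, LinearMap.smul_apply, smul_eq_zero, or_iff_right (inv_ne_zero hμ0), Matrix.toLin'_apply] at hw
      exact mv_inj B (hw.trans (mv_zero B).symm)
    let L : (β → F) × (β → F) →ₗ[F] LinearMap.range X :=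
      (X.rangeRestrict).comp (((lam u₁).comp (LinearMap.fst F (β → F) (β → F))) +
        (lam u₂).comp (LinearMap.snd F (β → F) (β → F)))
    have hinjL : Function.Injective L := by
      rw [← LinearMap.ker_eq_bot, LinearMap.ker_eq_bot']
      rintro ⟨w₁, w₂⟩ hw
      have e : X (ten u₁ w₁ + ten u₂ w₂) = 0 := congrArg Subtype.val hw
      rw [LinearMap.sub_apply, Matrix.toLin'_apply, LinearMap.id_apply, sub_eq_zero] at e
      change mv h _ = _ at e
      rw [mv_add, hAB', hAB', hAN, hAN, hu₁, hu₂] at e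
      have e1 := congrArg (ctrL ψ₁) e
      simp only [map_add, ctrL_ten, dotProduct_add, hψ₁', a1, a2, a3, zero_smul, one_smul, add_zero,
        zero_add] at e1
      have hw₁ := hBinj _ e1
      subst hw₁
      have e2 := congrArg (ctrL ψ₂) e
      simp only [map_add, ctrL_ten, dotProduct_add, hψ₂', a4, map_zero, ten_zero_right, zero_smul, one_smul,
        add_zero, zero_add, smul_zero] at e2
      rw [hBinj _ e2]; rfl
    have h1' := LinearMap.finrank_le_finrank_of_injective hinjL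
    rw [Module.finrank_prod, Module.finrank_fintype_fun_eq_card] at h1'
    have := C.hαβ
    omega
  -- the first factor is trivial
  have hN0 : N = 0 := by
    by_contra hne
    obtain ⟨y, hy, hy0, hyR⟩ : ∃ y, N y = 0 ∧ y ≠ 0 ∧ y ∈ LinearMap.range N := by
      obtain ⟨u, hu⟩ : ∃ u, N u ≠ 0 := by
        by_contra hcon
        push Not at hcon
        exact hne (LinearMap.ext hcon)
      have hex : ∃ n : ℕ, (N ^ (n + 1)) u = 0 := ⟨p, by
        rw [pow_succ', Module.End.mul_apply, hNp, LinearMap.zero_apply, map_zero]⟩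
      obtain ⟨n, hn⟩ : ∃ n, Nat.find hex = n := ⟨_, rfl⟩
      have hspec := Nat.find_spec hex
      rw [hn] at hspec
      cases n with
      | zero => exact absurd (by simpa using hspec) hu
      | succ n =>
        refine ⟨(N ^ (n + 1)) u, ?_, Nat.find_min hex (by omega),
          ⟨(N ^ n) u, by rw [pow_succ', Module.End.mul_apply]⟩⟩
        rwa [← Module.End.mul_apply, ← pow_succ']
    obtain ⟨θ₁, hθ₁⟩ := exists_dot_one hy0
    set φ : (α → F) → F := fun u => θ₁ ⬝ᵥ N u with hφ
    have hφu : ∀ u, N u = φ u • y := fun u => by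
      obtain ⟨t, ht⟩ := Submodule.mem_span_singleton.1 (hone y hy hy0 hyR u)
      rw [hφ]; dsimp only
      rw [← ht, dotProduct_smul, hθ₁, smul_eq_mul, mul_one]
    -- the first factor preserves the form
    obtain ⟨w, z, hwz⟩ : ∃ w z : β → F, pol q₂ w z ≠ 0 := by
      by_contra hcon
      push Not at hcon
      have := congrFun (eq_zero_of_orth C.h₂ (hcon (Pi.single j₀ 1))) j₀
      simp at this
    obtain ⟨m, hm⟩ : ∃ m, ∀ u v, pol q₁ (Al u) (Al v) * m = pol q₁ u v := ⟨pol q₂ (Bl w) (Bl z) / pol q₂ w z,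
      fun u v => by
        rw [← mul_div_assoc, div_eq_iff hwz, ← C.hpol, ← hAB', ← hAB', Orth.pol_mv C.hQ hI, C.hpol]⟩
    obtain ⟨u₀, hu₀⟩ : ∃ u, pol q₁ y u ≠ 0 := by
      by_contra hcon
      push Not at hcon
      exact hy0 (eq_zero_of_orth C.h₁ hcon)
    have hm1 : m = 1 := by
      have hmn : ∀ (n : ℕ) u v, pol q₁ ((Al ^ n) u) ((Al ^ n) v) * m ^ n = pol q₁ u v := by
        intro n
        induction n with
        | zero => intro u v; simp
        | succ n ih =>
          intro u v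
          rw [pow_succ' Al, Module.End.mul_apply, Module.End.mul_apply, pow_succ', ← mul_assoc, hm, ih]
      have e := hmn p y u₀
      rw [hAp] at e
      have hmp : m ^ p = 1 := mul_left_cancel₀ hu₀ (by rw [mul_one]; exact e)
      have : (m - 1) ^ p = 0 := by rw [sub_pow_char, one_pow, hmp, sub_self]
      exact sub_eq_zero.1 (pow_eq_zero_iff (Fact.out : p.Prime).ne_zero |>.1 this)
    have e : ∀ u v, φ v * pol q₁ u y + φ u * pol q₁ y v + φ u * φ v * pol q₁ y y = 0 := fun u v => by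
      have := hm u v
      rw [hm1, mul_one, hAN, hAN, hφu, hφu] at this
      simp only [Orth.pol_add_left C.h₁, Orth.pol_add_right C.h₁, Orth.pol_smul_left C.h₁,
        Orth.pol_smul_right C.h₁] at this
      linear_combination this
    obtain ⟨u₁, hu₁⟩ := hyR
    have hφ1 : φ u₁ = 1 := by rw [hφ]; dsimp only; rw [hu₁, hθ₁]
    have hφy : φ y = 0 := by rw [hφ]; dsimp only; rw [hy, dotProduct_zero]
    have hyy : pol q₁ y y = 0 := by
      have := e u₁ y
      rwa [hφ1, hφy, zero_mul, zero_add, one_mul, mul_zero, zero_mul, add_zero] at this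
    have hy1 : pol q₁ u₁ y = 0 := by
      have := e u₁ u₁
      rw [hφ1, hyy, Orth.pol_comm y u₁, one_mul, mul_zero, add_zero] at this
      exact (mul_eq_zero.1 (show (2 : F) * pol q₁ u₁ y = 0 by linear_combination this)).resolve_left C.two
    have := e u₁ u₀
    rw [hy1, hφ1, hyy] at this
    exact hu₀ (by linear_combination this)
  refine ⟨Bl - LinearMap.id, fun u w => ?_⟩
  rw [hAB', hAN, hN0, LinearMap.zero_apply, add_zero, LinearMap.sub_apply, LinearMap.id_apply,
    sub_eq_add_neg (Bl w), ten_add_right, ← neg_one_smul F w, ten_smul_right]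
  module

/-- The conjugate of a shear by g with a Kronecker value forces g to send the line to a line. -/
theorem line_of_kron [Finite F] (C : Ctx Q q₁ q₂ M) (hC : CentreTriv q₂ M) (hMid : MiddleShear q₂ M)
    {g : GL (α × β) F} (hg : g ∈ M) {c v : β → F} (hc0 : c ≠ 0) (hc : q₂ c = 0) (hv : pol q₂ c v = 0)
    (hvc : v ∉ Submodule.span F {c}) {E : GL (α × β) F} (hE : E ∈ M)
    (hEx : ∀ x, mv E x = x + ten (pc q₂ c x) v - ten (pc q₂ v x + q₂ v • pc q₂ c x) c)
    (hk : IsKron (g * E * g⁻¹)) :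
    ∃ c', c' ≠ 0 ∧ q₂ c' = 0 ∧ (line α c).map (mvLin g) = line α c' := by
  classical
  haveI : Nonempty α := Fintype.card_pos_iff.1 (by have := C.hα; omega)
  obtain ⟨p, hpc⟩ := CharP.exists F
  haveI := hpc
  have hpp : p.Prime := (CharP.char_is_prime_or_zero F p).resolve_right fun h0 => by
    subst h0
    haveI := CharP.charP_to_charZero F
    exact not_finite F
  haveI : Fact p.Prime := ⟨hpp⟩
  have hodd : Odd p := hpp.odd_of_ne_two fun h' => C.two (by subst h'; exact_mod_cast CharP.cast_eq_zero F 2)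
  -- a noniso choice gives the line as the image of the square
  have main : ∀ v, pol q₂ c v = 0 → q₂ v ≠ 0 → ∀ E ∈ M,
      (∀ x, mv E x = x + ten (pc q₂ c x) v - ten (pc q₂ v x + q₂ v • pc q₂ c x) c) →
      IsKron (g * E * g⁻¹) → ∃ c', c' ≠ 0 ∧ q₂ c' = 0 ∧ (line α c).map (mvLin g) = line α c' := by
    intro v hv hqv E hE hEx hk
    set h := g * E * g⁻¹ with hdef
    have hh : h ∈ M := M.mul_mem (M.mul_mem hg hE) (M.inv_mem hg)
    have hEp : E ^ p = 1 := by
      have hEn : ∀ n : ℕ, ∀ x, mv (E ^ n) x = x + ten (pc q₂ c x) ((n : F) • v) -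
          ten (pc q₂ ((n : F) • v) x + q₂ ((n : F) • v) • pc q₂ c x) c := by
        intro n
        induction n with
        | zero =>
          intro x
          rw [Nat.cast_zero, zero_smul, Orth.q_zero C.h₂, ten_zero_right, zero_smul, add_zero, add_zero,
            show pc q₂ (0 : β → F) x = 0 by rw [← zero_smul F c, pc_smul_vec C, zero_smul]; rfl,
            ten_zero_left, sub_zero, pow_zero, mv_one]
        | succ n ih =>
          intro x
          rw [pow_succ', mv_mul, ih, hEx]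
          simp only [map_add, map_sub, map_smul, pc_ten C, pol_self_zero C.h₂ hc, hv, Orth.pol_comm v c,
            Orth.pol_self C.h₂, pc_smul_vec C, LinearMap.smul_apply, Orth.q_smul C.h₂, Nat.cast_succ,
            add_smul, one_smul, ten_add_left, ten_smul_left, ten_smul_right, ten_add_right,
            zero_smul, smul_zero, sub_zero, zero_add, add_zero, smul_sub, smul_add, smul_smul,
            pc_add_vec C, LinearMap.add_apply, Orth.q_add C.h₂, Orth.pol_smul_left C.h₂, Orth.pol_smul_right C.h₂]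
          funext i
          simp [ten]
          ring
      refine ext_mv fun x => ?_
      rw [hEn, CharP.cast_eq_zero, zero_smul, Orth.q_zero C.h₂, ten_zero_right, zero_smul, add_zero, add_zero,
        show pc q₂ (0 : β → F) x = 0 by rw [← zero_smul F c, pc_smul_vec C, zero_smul]; rfl,
        ten_zero_left, sub_zero, mv_one]
    have hp : h ^ p = 1 := by rw [hdef, conj_pow, hEp, mul_one, mul_inv_cancel]
    set X := mvLin h - LinearMap.id with hX
    have hXx : ∀ x, X x = mv g (ten (pc q₂ c (mv g⁻¹ x)) v -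
        ten (pc q₂ v (mv g⁻¹ x) + q₂ v • pc q₂ c (mv g⁻¹ x)) c) := fun x => by
      rw [hX, LinearMap.sub_apply, Matrix.toLin'_apply, LinearMap.id_apply]
      show mv h x - x = _
      rw [hdef, mv_mul, mv_mul, hEx, add_sub_assoc, mv_add, mv_mv_inv, add_sub_cancel_left]
    have hr : Module.finrank F (LinearMap.range X) ≤ 2 * Fintype.card α := by
      have hle : LinearMap.range X ≤ (line α v).map (mvLin g) ⊔ (line α c).map (mvLin g) := by
        rintro _ ⟨x, rfl⟩
        rw [hXx, mv_sub]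
        exact Submodule.sub_mem _
          (Submodule.mem_sup_left (mem_map_mv.2 ⟨_, ten_mem_line _ _, rfl⟩))
          (Submodule.mem_sup_right (mem_map_mv.2 ⟨_, ten_mem_line _ _, rfl⟩))
      have h1 := Submodule.finrank_mono hle
      have h2 := Submodule.finrank_add_le_finrank_add_finrank ((line α v).map (mvLin g)) ((line α c).map (mvLin g))
      rw [finrank_map_mv, finrank_map_mv, finrank_line hc0] at h2
      have hv0 : v ≠ 0 := fun h0 => hqv (by rw [h0, Orth.q_zero C.h₂])
      rw [finrank_line hv0] at h2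
      omega
    obtain ⟨Γ, hΓ⟩ := second_factor C (C.le hh) hk hp hr
    have hXΓ : ∀ u w, X (ten u w) = ten u (Γ w) := fun u w => by
      rw [hX, LinearMap.sub_apply, Matrix.toLin'_apply, LinearMap.id_apply]
      show mv h (ten u w) - _ = _
      rw [hΓ, add_sub_cancel_left]
    have hX2 : ∀ x, X (X x) = mv g (ten ((-(2 * q₂ v)) • pc q₂ c (mv g⁻¹ x)) c) := fun x => by
      rw [hXx (X x), hXx x, mv_inv_mv]
      simp only [map_add, map_sub, map_smul, pc_ten C, pol_self_zero C.h₂ hc, hv, Orth.pol_comm v c,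
        Orth.pol_self C.h₂, zero_smul, smul_zero, sub_zero, sub_self, ten_zero_left, zero_add, add_zero,
        zero_sub, ten_smul_left]
      rw [← neg_smul]
    have hrange : LinearMap.range (X ∘ₗ X) = (line α c).map (mvLin g) := by
      refine le_antisymm ?_ fun y hy => ?_
      · rintro _ ⟨x, rfl⟩
        rw [LinearMap.comp_apply, hX2]
        exact mem_map_mv.2 ⟨_, ten_mem_line _ _, rfl⟩
      · obtain ⟨z, hz, rfl⟩ := mem_map_mv.1 hy
        obtain ⟨u, rfl⟩ := mem_line.1 hz
        obtain ⟨d, -, hcd⟩ := exists_pair C.h₂ hc0 hc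
        refine ⟨mv g (ten ((-(2 * q₂ v))⁻¹ • u) d), ?_⟩
        rw [LinearMap.comp_apply, hX2, mv_inv_mv, pc_ten C, Orth.pol_comm d c, hcd, one_smul, smul_smul,
          mul_inv_cancel₀ (neg_ne_zero.2 (mul_ne_zero C.two hqv)), one_smul]
    obtain ⟨w₀, hw₀⟩ : ∃ w, Γ (Γ w) ≠ 0 := by
      by_contra hcon
      push Not at hcon
      have h0 : X ∘ₗ X = 0 := ext_ten fun u w => by
        rw [LinearMap.comp_apply, hXΓ, hXΓ, hcon, ten_zero_right, LinearMap.zero_apply]
      rw [h0, LinearMap.range_zero] at hrange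
      have := congrArg (fun S : Submodule F (α × β → F) => Module.finrank F S) hrange
      simp only [finrank_bot, finrank_map_mv, finrank_line hc0] at this
      have := C.hα
      omega
    have heq : line α (Γ (Γ w₀)) = (line α c).map (mvLin g) := by
      rw [← hrange]
      refine Submodule.eq_of_le_of_finrank_le (fun y hy => ?_) ?_
      · obtain ⟨u, rfl⟩ := mem_line.1 hy
        exact ⟨ten u w₀, by rw [LinearMap.comp_apply, hXΓ, hXΓ]⟩
      · rw [hrange, finrank_map_mv, finrank_line hc0, finrank_line hw₀]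
    refine ⟨_, hw₀, ?_, heq.symm⟩
    obtain ⟨u, -, hu⟩ := Orth.exists_anisotropic C.h₁ (Orth.nondeg_top C.h₁) (fun h => by
      have := C.hα
      have e := congrArg (fun S : Submodule F (α → F) => Module.finrank F S) h
      simp only [finrank_top, Module.finrank_pi, finrank_bot] at e
      omega)
    obtain ⟨z, hz, hze⟩ := mem_map_mv.1 (show ten u (Γ (Γ w₀)) ∈ (line α c).map (mvLin g) by
      rw [← heq]; exact ten_mem_line _ _)
    obtain ⟨t, rfl⟩ := mem_line.1 hz
    have e := Orth.mem_isometry.1 (C.le hg) (ten t c)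
    rw [hze, C.q_iso_right hc, C.q_ten] at e
    exact (mul_eq_zero.1 e).resolve_left (mul_ne_zero C.two hu)
  by_cases hqv : q₂ v = 0
  swap
  · exact main v hv hqv E hE hEx hk
  -- a totally singular pair: a fixed singular line gives a second, anisotropic shear
  set h := g * E * g⁻¹ with hdef
  have hh : h ∈ M := M.mul_mem (M.mul_mem hg hE) (M.inv_mem hg)
  set X := mvLin h - LinearMap.id with hX
  set P := (line α v).map (mvLin g) ⊔ (line α c).map (mvLin g) with hPdef
  have hXP : LinearMap.range X ≤ P := by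
    rintro _ ⟨x, rfl⟩
    rw [hX, LinearMap.sub_apply, Matrix.toLin'_apply, LinearMap.id_apply]
    show mv h x - x ∈ P
    rw [hdef, mv_mul, mv_mul, hEx, add_sub_assoc, mv_add, mv_mv_inv, add_sub_cancel_left, mv_sub]
    exact Submodule.sub_mem _
      (Submodule.mem_sup_left (mem_map_mv.2 ⟨_, ten_mem_line _ _, rfl⟩))
      (Submodule.mem_sup_right (mem_map_mv.2 ⟨_, ten_mem_line _ _, rfl⟩))
  obtain ⟨v₂, hv₂, hqv₂⟩ := exists_aniso_perp C.h₂ (P := Submodule.span F ({c, v} : Set (β → F))) (by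
    classical
    have h2 : Module.finrank F ↥(Submodule.span F ({c, v} : Set (β → F))) ≤ 2 :=
      (finrank_span_le_card _).trans (by rw [Set.toFinset_insert, Set.toFinset_singleton]; exact Finset.card_le_two)
    have := C.hβ
    omega)
  have hcv₂ : pol q₂ c v₂ = 0 := hv₂ c (Submodule.subset_span (Set.mem_insert _ _))
  have hvv₂ : pol q₂ v v₂ = 0 := hv₂ v (Submodule.subset_span (Set.mem_insert_of_mem _ rfl))
  obtain ⟨E₂, hE₂, -, hE₂x⟩ := exists_shear C hc hcv₂
  have hfix₂ : ∀ y ∈ P, mv (g * E₂ * g⁻¹) y = y := by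
    have key : ∀ w, pol q₂ c w = 0 → pol q₂ v₂ w = 0 → ∀ y ∈ (line α w).map (mvLin g),
        mv (g * E₂ * g⁻¹) y = y := fun w h1 h2 y hy => by
      obtain ⟨z, hz, rfl⟩ := mem_map_mv.1 hy
      obtain ⟨u, rfl⟩ := mem_line.1 hz
      rw [mv_mul, mv_mul, mv_inv_mv, hE₂x, pc_ten C, pc_ten C, Orth.pol_comm w c, h1, Orth.pol_comm w v₂, h2]
      simp [ten_zero_left]
    intro y hy
    obtain ⟨y₁, hy₁, y₂, hy₂, rfl⟩ := Submodule.mem_sup.1 hy
    rw [mv_add, key v hv (by rw [Orth.pol_comm, hvv₂]) y₁ hy₁,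
      key c (pol_self_zero C.h₂ hc) (by rw [Orth.pol_comm, hcv₂]) y₂ hy₂]
  have hPsing : ∀ y ∈ P, ∀ y' ∈ P, pol Q y y' = 0 := by
    have key : ∀ w w', pol q₂ w w' = 0 → ∀ y ∈ (line α w).map (mvLin g), ∀ y' ∈ (line α w').map (mvLin g),
        pol Q y y' = 0 := fun w w' hww y hy y' hy' => by
      obtain ⟨z, hz, rfl⟩ := mem_map_mv.1 hy
      obtain ⟨z', hz', rfl⟩ := mem_map_mv.1 hy'
      obtain ⟨u, rfl⟩ := mem_line.1 hz
      obtain ⟨u', rfl⟩ := mem_line.1 hz'
      rw [C.iso hg, C.hpol, hww, mul_zero]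
    intro y hy y' hy'
    obtain ⟨y₁, hy₁, y₂, hy₂, rfl⟩ := Submodule.mem_sup.1 hy
    obtain ⟨y₁', hy₁', y₂', hy₂', rfl⟩ := Submodule.mem_sup.1 hy'
    rw [Orth.pol_add_left C.hQ, Orth.pol_add_right C.hQ, Orth.pol_add_right C.hQ,
      key v v (pol_self_zero C.h₂ hqv) y₁ hy₁ y₁' hy₁', key v c (by rw [Orth.pol_comm, hv]) y₁ hy₁ y₂' hy₂',
      key c v hv y₂ hy₂ y₁' hy₁', key c c (pol_self_zero C.h₂ hc) y₂ hy₂ y₂' hy₂']
    simp
  have hhp : h ^ p = 1 := by
    have hXX : ∀ x, X (X x) = 0 := fun x => by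
      have hy := hXP ⟨x, rfl⟩
      rw [hX, LinearMap.sub_apply, Matrix.toLin'_apply, LinearMap.id_apply]
      show mv h _ - _ = 0
      have hfixP : ∀ y ∈ P, mv h y = y := by
        have key : ∀ w, pol q₂ c w = 0 → pol q₂ v w = 0 → ∀ y ∈ (line α w).map (mvLin g), mv h y = y :=
          fun w h1 h2 y hy => by
          obtain ⟨z, hz, rfl⟩ := mem_map_mv.1 hy
          obtain ⟨u, rfl⟩ := mem_line.1 hz
          rw [hdef, mv_mul, mv_mul, mv_inv_mv, hEx, pc_ten C, pc_ten C, Orth.pol_comm w c, h1,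
            Orth.pol_comm w v, h2]
          simp [ten_zero_left]
        intro y hy
        obtain ⟨y₁, hy₁, y₂, hy₂, rfl⟩ := Submodule.mem_sup.1 hy
        rw [mv_add, key v hv (pol_self_zero C.h₂ hqv) y₁ hy₁,
          key c (pol_self_zero C.h₂ hc) (by rw [Orth.pol_comm, hv]) y₂ hy₂]
      rw [hfixP _ hy, sub_self]
    have hn : ∀ n : ℕ, ∀ x, mv (h ^ n) x = x + (n : F) • X x := by
      intro n
      induction n with
      | zero => intro x; simp [mv_one]
      | succ n ih =>
        intro x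
        have hX' : ∀ z, mv h z = z + X z := fun z => by
          rw [hX, LinearMap.sub_apply, Matrix.toLin'_apply, LinearMap.id_apply]
          show mv h z = z + (mv h z - z)
          abel
        rw [pow_succ', mv_mul, ih, hX', map_add, map_smul, hXX, smul_zero, add_zero, Nat.cast_succ, add_smul,
          one_smul]
        abel
    exact ext_mv fun x => by rw [hn, CharP.cast_eq_zero, zero_smul, add_zero, mv_one]
  have hr : Module.finrank F (LinearMap.range X) ≤ 2 * Fintype.card α := by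
    have h1 := Submodule.finrank_mono hXP
    have h2 := Submodule.finrank_add_le_finrank_add_finrank ((line α v).map (mvLin g)) ((line α c).map (mvLin g))
    rw [finrank_map_mv, finrank_map_mv, finrank_line hc0] at h2
    have hv0 : v ≠ 0 := fun h0 => hvc (h0 ▸ Submodule.zero_mem _)
    rw [finrank_line hv0] at h2
    rw [hPdef] at h1
    omega
  obtain ⟨Γ, hΓ⟩ := second_factor C (C.le hh) hk hhp hr
  obtain ⟨w₀, hw₀⟩ : ∃ w, Γ w ≠ 0 := by
    by_contra hcon
    push Not at hcon
    have h1 : h = 1 := ext_ten_mv fun u w => by rw [hΓ, hcon, ten_zero_right, add_zero, mv_one]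
    rw [hdef, conj_eq_one_iff] at h1
    obtain ⟨i₀⟩ := ‹Nonempty α›
    obtain ⟨d, -, hcd⟩ := exists_pair C.h₂ hc0 hc
    have e := hEx (ten (Pi.single i₀ 1) d)
    rw [h1, mv_one, pc_ten C, pc_ten C, Orth.pol_comm d c, hcd, one_smul, hqv, zero_smul, add_zero,
      ten_smul_left, ← ten_smul_right, add_sub_assoc, eq_comm, add_eq_left, sub_eq_zero] at e
    obtain ⟨θ, hθ⟩ := exists_dot_one (c := (Pi.single i₀ 1 : α → F)) (by simp)
    have := congrArg (ctrL θ) e
    rw [ctrL_ten, ctrL_ten, hθ, one_smul, one_smul] at this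
    exact hvc (Submodule.mem_span_singleton.2 ⟨_, this.symm⟩)
  have hle : line α (Γ w₀) ≤ P := (line_le_range hΓ w₀).trans hXP
  have hiso' : q₂ (Γ w₀) = 0 := by
    obtain ⟨u, -, hu⟩ := Orth.exists_anisotropic C.h₁ (Orth.nondeg_top C.h₁) (fun h => by
      have := C.hα
      have e := congrArg (fun S : Submodule F (α → F) => Module.finrank F S) h
      simp only [finrank_top, Module.finrank_pi, finrank_bot] at e
      omega)
    have e := hPsing _ (hle (ten_mem_line u _)) _ (hle (ten_mem_line u _))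
    rw [Orth.pol_self C.hQ, C.q_ten] at e
    simpa [C.two, hu] using e
  refine main v₂ hcv₂ hqv₂ E₂ hE₂ hE₂x
    (kron_of_fix C hC hMid hodd (M.mul_mem (M.mul_mem hg hE₂) (M.inv_mem hg)) ?_ hw₀ hiso'
      fun u => hfix₂ _ (hle (ten_mem_line u _)))
  obtain ⟨B, hB, hBs⟩ := Orth.exists_siegel C.h₂ hc hcv₂
  have hE₂B : E₂ = kr 1 B := ext_ten_mv fun u w => by
    rw [hE₂x, mv_kr_ten, mv_one, hBs, pc_ten C, pc_ten C]
    funext i
    simp [ten]
    ring
  have hBp : B ^ p = 1 := by
    refine Orth.isSiegel_unique (isSiegel_pow C.h₂ hc hcv₂ hBs p) ?_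
    rw [CharP.cast_eq_zero, zero_smul]
    exact Orth.isSiegel_zero C.h₂ c
  have hkp : ∀ n : ℕ, (kr (1 : GL α F) B) ^ n = kr 1 (B ^ n) := fun n => by
    induction n with
    | zero =>
      exact ext_ten_mv fun u w => by simp [mv_kr_ten, mv_one]
    | succ n ih =>
      refine ext_ten_mv fun u w => ?_
      rw [pow_succ, ih, mv_mul, mv_kr_ten, mv_kr_ten, mv_kr_ten, pow_succ, mv_mul]
      simp [mv_one]
  rw [conj_pow, hE₂B, hkp, hBp, show kr (1 : GL α F) (1 : GL β F) = 1 from
    ext_ten_mv fun u w => by simp [mv_kr_ten, mv_one], mul_one, mul_inv_cancel]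

end Cfsg.Agent.OrthTensor
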