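/-
A member sending one singular line to a line is a Kronecker product.
-/
import Cfsg.Agent.Lib.OrthTensor.Line

set_option autoImplicit false
set_option linter.unusedSectionVars false

namespace Cfsg.Agent.OrthTensor

open scoped Matrix Kronecker
open Matrix Cfsg.Agent.Transvec Cfsg.Agent.TensorMax
open Cfsg.Agent.TensorMax.U (kr mv_kr_ten isKron_kr isKron_mul isKron_inv mv_kron_ten ext_ten_mv)
open Cfsg.Agent.Transvec.Orth (pol IsSiegel)

variable {α β : Type} [Fintype α] [DecidableEq α] [Fintype β] [DecidableEq β] {F : Type*} [Field F]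
variable {Q : (α × β → F) → F} {q₁ : (α → F) → F} {q₂ : (β → F) → F}
variable {M : Subgroup (GL (α × β) F)}

theorem finrank_span_pair_le {κ : Type} [Fintype κ] (c w : κ → F) :
    Module.finrank F ↥(Submodule.span F ({c, w} : Set (κ → F))) ≤ 2 := by
  classical
  exact (finrank_span_le_card _).trans
    (by rw [Set.toFinset_insert, Set.toFinset_singleton]; exact Finset.card_le_two)

/-- Shears conjugate to elements of p-power order. -/
theorem shear_pow [Finite F] (C : Ctx Q q₁ q₂ M) {c v : β → F} (hc : q₂ c = 0) (hv : pol q₂ c v = 0)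
    {E : GL (α × β) F} (hEx : ∀ x, mv E x = x + ten (pc q₂ c x) v - ten (pc q₂ v x + q₂ v • pc q₂ c x) c) :
    ∃ p : ℕ, Odd p ∧ E ^ p = 1 := by
  obtain ⟨B, hB, hBs⟩ := Orth.exists_siegel C.h₂ hc hv
  have hEB : E = kr 1 B := ext_ten_mv fun u w => by
    rw [hEx, mv_kr_ten, mv_one, hBs, pc_ten C, pc_ten C]
    funext i
    simp [ten]
    ring
  refine ⟨orderOf B, siegel_odd C.h₂ C.two hc hv hBs, ?_⟩
  have hkp : ∀ n : ℕ, (kr (1 : GL α F) B) ^ n = kr 1 (B ^ n) := fun n => by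
    induction n with
    | zero =>
      exact ext_ten_mv fun u w => by simp [mv_kr_ten, mv_one]
    | succ n ih =>
      refine ext_ten_mv fun u w => ?_
      rw [pow_succ, ih, mv_mul, mv_kr_ten, mv_kr_ten, mv_kr_ten, pow_succ, mv_mul]
      simp [mv_one]
  rw [hEB, hkp, pow_orderOf_eq_one]
  exact ext_ten_mv fun u w => by simp [mv_kr_ten, mv_one]

/-- A member sending a singular line to a line does the same for every orthogonal singular line. -/
theorem line_step [Finite F] (C : Ctx Q q₁ q₂ M) (hC : CentreTriv q₂ M) (hMid : MiddleShear q₂ M)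
    {g : GL (α × β) F} (hg : g ∈ M) {c c' w : β → F} (hc' : c' ≠ 0) (hqc' : q₂ c' = 0)
    (hmap : (line α c).map (mvLin g) = line α c') (hw0 : w ≠ 0) (hw : q₂ w = 0) (hwc : pol q₂ w c = 0) :
    ∃ w', w' ≠ 0 ∧ q₂ w' = 0 ∧ (line α w).map (mvLin g) = line α w' := by
  obtain ⟨v, hv, hqv⟩ := exists_aniso_perp C.h₂ (P := Submodule.span F ({c, w} : Set (β → F))) (by
    have := finrank_span_pair_le c w
    have := C.hβ
    omega)
  have hcv : pol q₂ c v = 0 := hv c (Submodule.subset_span (Set.mem_insert _ _))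
  have hwv : pol q₂ w v = 0 := hv w (Submodule.subset_span (Set.mem_insert_of_mem _ rfl))
  have hvw : v ∉ Submodule.span F {w} := fun hm => by
    obtain ⟨t, rfl⟩ := Submodule.mem_span_singleton.1 hm
    exact hqv (by rw [Orth.q_smul C.h₂, hw, mul_zero])
  obtain ⟨E, hE, -, hEx⟩ := exists_shear C hw hwv
  obtain ⟨p, hp, hEp⟩ := shear_pow C hw hwv hEx
  refine line_of_kron C hC hMid hg hw0 hw hwv hvw hE hEx
    (kron_of_fix C hC hMid hp (M.mul_mem (M.mul_mem hg hE) (M.inv_mem hg))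
      (by rw [conj_pow, hEp, mul_one, mul_inv_cancel]) hc' hqc' fun u => ?_)
  obtain ⟨y, hy, hye⟩ := mem_map_mv.1 (show ten u c' ∈ (line α c).map (mvLin g) from hmap ▸ ten_mem_line u c')
  obtain ⟨t, rfl⟩ := mem_line.1 hy
  rw [← hye, mv_mul, mv_mul, mv_inv_mv, hEx, pc_ten C, pc_ten C, Orth.pol_comm c w, hwc, hcv]
  simp [ten_zero_left]

/-- Connectedness of singular lines by orthogonality. -/
theorem iso_connected [Finite F] (C : Ctx Q q₁ q₂ M) {P : (β → F) → Prop}
    (hstep : ∀ c w, c ≠ 0 → q₂ c = 0 → w ≠ 0 → q₂ w = 0 → pol q₂ w c = 0 → P c → P w)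
    {c₀ : β → F} (hc₀ : c₀ ≠ 0) (hiso₀ : q₂ c₀ = 0) (h₀ : P c₀) (w : β → F) (hw0 : w ≠ 0)
    (hw : q₂ w = 0) : P w := by
  by_cases h : pol q₂ w c₀ = 0
  · exact hstep c₀ w hc₀ hiso₀ hw0 hw h h₀
  set d := (pol q₂ w c₀)⁻¹ • w with hd
  have hdq : q₂ d = 0 := by rw [hd, Orth.q_smul C.h₂, hw, mul_zero]
  have hcd : pol q₂ c₀ d = 1 := by
    rw [hd, Orth.pol_smul_right C.h₂, Orth.pol_comm c₀ w, inv_mul_cancel₀ h]
  obtain ⟨-, hf, hm⟩ := pair_perp C.h₂ hiso₀ hdq hcd
  obtain ⟨e, heX, he0, he⟩ := Orth.exists_singular C.h₂ (X := (⊤ : Submodule F (β → F)) ⊓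
    Orth.orth C.h₂ (Submodule.span F {c₀, d})) (by have := C.hβ; omega)
  obtain ⟨hec, hed⟩ := (hm e).1 heX
  rw [hd, Orth.pol_smul_right C.h₂, mul_eq_zero, or_iff_right (inv_ne_zero h)] at hed
  exact hstep e w he0 he hw0 hw (by rw [Orth.pol_comm, hed]) (hstep c₀ e hc₀ hiso₀ he0 he hec h₀)

/-- A member sending one singular line to a line is a Kronecker product. -/
theorem kron_of_line [Finite F] (C : Ctx Q q₁ q₂ M) (hC : CentreTriv q₂ M) (hMid : MiddleShear q₂ M)
    {g : GL (α × β) F} (hg : g ∈ M) {c₀ c₁ : β → F} (hc₀ : c₀ ≠ 0) (hiso₀ : q₂ c₀ = 0) (hc₁ : c₁ ≠ 0)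
    (hiso₁ : q₂ c₁ = 0) (hmap : (line α c₀).map (mvLin g) = line α c₁) : IsKron g := by
  classical
  have : Nonempty α := Fintype.card_pos_iff.1 (by have := C.hα; omega)
  have : Nonempty β := Fintype.card_pos_iff.1 (by have := C.hβ; omega)
  have hlines : ∀ w, w ≠ 0 → q₂ w = 0 →
      ∃ w', w' ≠ 0 ∧ q₂ w' = 0 ∧ (line α w).map (mvLin g) = line α w' :=
    iso_connected C (fun c w _ _ hw0 hw hwc hP => by
      obtain ⟨c', hc', hiso', hm⟩ := hP
      exact line_step C hC hMid hg hc' hiso' hm hw0 hw hwc) hc₀ hiso₀ ⟨c₁, hc₁, hiso₁, hmap⟩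
  obtain ⟨θ, hθ⟩ := exists_dot_one hc₁
  set A : (α → F) →ₗ[F] α → F := (ctr θ).comp ((mvLin g).comp (rho c₀)) with hAdef
  have himg : ∀ {c c' : β → F}, (line α c).map (mvLin g) = line α c' → ∀ u : α → F,
      ∃ v, ten v c' = mv g (ten u c) := fun {c c'} hm u => mem_line.1 (by
    rw [← hm]; exact mem_map_mv.2 ⟨_, ten_mem_line _ _, rfl⟩)
  have hA₀ : ∀ u, mv g (ten u c₀) = ten (A u) c₁ := by
    intro u
    obtain ⟨v, hv⟩ := himg hmap u
    have : A u = v := by
      show ctr θ (mvLin g (ten u c₀)) = v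
      rw [Matrix.toLin'_apply]
      show ctr θ (mv g _) = v
      rw [← hv, ctr_ten, hθ, one_smul]
    rw [this, hv]
  have hAinj : ∀ u, u ≠ 0 → A u ≠ 0 := fun u hu h => by
    have := hA₀ u
    rw [h, ten_zero_left] at this
    exact ten_ne_zero hu hc₀ (mv_inj g (this.trans (mv_zero g).symm))
  obtain ⟨i₀⟩ := ‹Nonempty α›
  set u₀ : α → F := Pi.single i₀ 1
  have hu₀ : u₀ ≠ 0 := by simp [u₀]
  have hact : ∀ w, w ≠ 0 → q₂ w = 0 → ∃ w', ∀ u, mv g (ten u w) = ten (A u) w' := by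
    refine iso_connected C (fun c d hc hcc hd0 hdd hdc hP => ?_) hc₀ hiso₀ ⟨c₁, hA₀⟩
    obtain ⟨c', hc'⟩ := hP
    by_cases hdep : d ∈ Submodule.span F {c}
    · obtain ⟨a, rfl⟩ := Submodule.mem_span_singleton.1 hdep
      exact ⟨a • c', fun u => by rw [ten_smul_right, mv_smul, hc', ten_smul_right]⟩
    obtain ⟨d', hd'0, -, hdm⟩ := hlines d hd0 hdd
    have hc'0 : c' ≠ 0 := fun h => by
      have := hc' u₀
      rw [h, ten_zero_right] at this
      exact ten_ne_zero hu₀ hc (mv_inj g (this.trans (mv_zero g).symm))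
    have hcm : (line α c).map (mvLin g) = line α c' := by
      refine Submodule.eq_of_le_of_finrank_le (fun x hx => ?_) (by
        rw [finrank_map_mv, finrank_line hc, finrank_line hc'0])
      obtain ⟨y, hy, rfl⟩ := mem_map_mv.1 hx
      obtain ⟨u, rfl⟩ := mem_line.1 hy
      rw [hc']
      exact ten_mem_line _ _
    have hind : ∀ s : F, d' ≠ s • c' := by
      intro s hs
      obtain ⟨v, hv⟩ := himg hdm u₀
      have hm : mv g (ten u₀ d) ∈ (line α c).map (mvLin g) := by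
        rw [hcm, ← hv, hs, ten_smul_right, ← ten_smul_left]
        exact ten_mem_line _ _
      obtain ⟨y, hy, e⟩ := mem_map_mv.1 hm
      obtain ⟨φ, hφ, hφd⟩ := exists_dot hdep
      have := ctr_line (hφ c (Submodule.mem_span_singleton_self c)) hy
      rw [mv_inj g e, ctr_ten, hφd, one_smul] at this
      exact hu₀ this
    have hl0 : c' ∉ Submodule.span F {d'} := fun hm => by
      obtain ⟨t, ht⟩ := Submodule.mem_span_singleton.1 hm
      have ht0 : t ≠ 0 := fun h0 => hc'0 (by rw [← ht, h0, zero_smul])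
      exact hind t⁻¹ (by rw [← ht, smul_smul, inv_mul_cancel₀ ht0, one_smul])
    have hl1 : d' ∉ Submodule.span F {c'} := fun hm => by
      obtain ⟨t, ht⟩ := Submodule.mem_span_singleton.1 hm
      exact hind t ht.symm
    obtain ⟨p, hp1, hp2⟩ := exists_dot hl0
    obtain ⟨r, hr1, hr2⟩ := exists_dot hl1
    have hpl : p ⬝ᵥ d' = 0 := hp1 _ (Submodule.mem_span_singleton_self _)
    have hrk : r ⬝ᵥ c' = 0 := hr1 _ (Submodule.mem_span_singleton_self _)
    have hsum0 : c + d ≠ 0 := fun h => hdep (by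
      rw [eq_neg_of_add_eq_zero_right h]
      exact Submodule.neg_mem _ (Submodule.mem_span_singleton_self c))
    have hsum : q₂ (c + d) = 0 := by
      rw [Orth.q_add C.h₂, hcc, hdd, Orth.pol_comm, hdc]
      ring
    obtain ⟨e', -, -, hem⟩ := hlines _ hsum0 hsum
    have key : ∀ u, ∃ w, mv g (ten u d) = ten w d' ∧
        ∃ v, A u = (p ⬝ᵥ e') • v ∧ w = (r ⬝ᵥ e') • v := by
      intro u
      obtain ⟨w, hw⟩ := himg hdm u
      obtain ⟨v, hv⟩ := himg hem u
      rw [ten_add_right, mv_add, hc', ← hw] at hv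
      refine ⟨w, hw.symm, v, ?_, ?_⟩
      · have e := congrArg (ctr p) hv
        rw [map_add, ctr_ten, ctr_ten, ctr_ten, hp2, hpl, one_smul, zero_smul, add_zero] at e
        exact e.symm
      · have e := congrArg (ctr r) hv
        rw [map_add, ctr_ten, ctr_ten, ctr_ten, hr2, hrk, one_smul, zero_smul, zero_add] at e
        exact e.symm
    have hpe : p ⬝ᵥ e' ≠ 0 := by
      intro h0
      obtain ⟨w, -, v, hv1, -⟩ := key u₀
      rw [h0, zero_smul] at hv1
      exact hAinj u₀ hu₀ hv1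
    refine ⟨((r ⬝ᵥ e') / (p ⬝ᵥ e')) • d', fun u => ?_⟩
    obtain ⟨w, hw, v, hv1, hv2⟩ := key u
    rw [hw, hv2, hv1, ten_smul_right, ← ten_smul_left, smul_smul, div_mul_cancel₀ _ hpe]
  obtain ⟨ψ, hψ⟩ := exists_dot_one (hAinj u₀ hu₀)
  set Γ : (β → F) →ₗ[F] β → F := (ctrL ψ).comp ((mvLin g).comp (lam u₀)) with hΓdef
  have hΓ : ∀ u w, mv g (ten u w) = ten (A u) (Γ w) := by
    intro u w
    let Y : (β → F) →ₗ[F] α × β → F := (mvLin g).comp (lam u) - (lam (A u)).comp Γ
    have hY : ∀ v, v ≠ 0 → q₂ v = 0 → v ∈ LinearMap.ker Y := by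
      intro v hv0 hv
      obtain ⟨v', hv'⟩ := hact v hv0 hv
      have e : Γ v = v' := by
        show ctrL ψ (mvLin g (ten u₀ v)) = v'
        rw [Matrix.toLin'_apply]
        show ctrL ψ (mv g _) = v'
        rw [hv', ctrL_ten, hψ, one_smul]
      show mvLin g (ten u v) - ten (A u) (Γ v) = 0
      rw [Matrix.toLin'_apply, e]
      exact sub_eq_zero.2 (hv' u)
    have := eq_top_of_singular C.h₂ (by have := C.hβ; omega) hY w
    rw [LinearMap.mem_ker] at this
    change mvLin g (ten u w) - ten (A u) (Γ w) = 0 at this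
    rw [Matrix.toLin'_apply, sub_eq_zero] at this
    exact this
  refine isKron_of_ten (LinearMap.toMatrix' A) (LinearMap.toMatrix' Γ) fun u w => ?_
  rw [LinearMap.toMatrix'_mulVec, LinearMap.toMatrix'_mulVec, hΓ]

/-- A member whose conjugate of a shear is Kronecker is itself Kronecker. -/
theorem kron_of_conj [Finite F] (C : Ctx Q q₁ q₂ M) (hC : CentreTriv q₂ M) (hMid : MiddleShear q₂ M)
    {g : GL (α × β) F} (hg : g ∈ M) {c v : β → F} (hc0 : c ≠ 0) (hc : q₂ c = 0) (hv : pol q₂ c v = 0)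
    (hvc : v ∉ Submodule.span F {c}) {E : GL (α × β) F} (hE : E ∈ M)
    (hEx : ∀ x, mv E x = x + ten (pc q₂ c x) v - ten (pc q₂ v x + q₂ v • pc q₂ c x) c)
    (hk : IsKron (g * E * g⁻¹)) : IsKron g := by
  obtain ⟨c', hc', hiso', hmap⟩ := line_of_kron C hC hMid hg hc0 hc hv hvc hE hEx hk
  exact kron_of_line C hC hMid hg hc0 hc hc' hiso' hmap

end Cfsg.Agent.OrthTensor
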