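/-
A member outside the Kronecker products can be changed so as to send a singular pure tensor to a multiple
of itself.
-/
import Cfsg.Agent.Lib.OrthTensor.Lines
import Cfsg.Agent.Lib.Transvec.OrthWreathTools

set_option autoImplicit false
set_option linter.unusedSectionVars false

namespace Cfsg.Agent.OrthTensor

open scoped Matrix Kronecker
open Matrix Cfsg.Agent.Transvec Cfsg.Agent.TensorMax
open Cfsg.Agent.TensorMax.U (kr mv_kr_ten isKron_kr isKron_mul isKron_inv mv_kron_ten ext_ten_mv)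
open Cfsg.Agent.Transvec.Orth (pol IsSiegel)

variable {α β : Type} [Fintype α] [DecidableEq α] [Fintype β] [DecidableEq β] {F : Type*} [Field F]
variable {Q : (α × β → F) → F} {q₁ : (α → F) → F} {q₂ : (β → F) → F}
variable {M : Subgroup (GL (α × β) F)}

/-- Enough reflections of the second factor: either a large gap, or an odd first factor and, up to sign,
all reflections of one square class. -/
def Mirror (q₂ : (β → F) → F) (M : Subgroup (GL (α × β) F)) : Prop :=
  Fintype.card α + 3 ≤ Fintype.card β ∨ (Odd (Fintype.card α) ∧ ∃ κ : F, κ ≠ 0 ∧ ∀ z, q₂ z = κ →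
    ∃ m ∈ M, ∃ ε : F, ε * ε = 1 ∧ ∀ u w, mv m (ten u w) = ε • ten u (w - (pol q₂ w z / κ) • z))

/-- A similitude in odd dimension has a square multiplier. -/
theorem similitude_square (hq : Geo.IsNondegenerateQuadraticForm q₁) (hodd : Odd (Fintype.card α))
    (A : (α → F) →ₗ[F] α → F) {μ : F} (hμ : μ ≠ 0) (hA : ∀ u v, pol q₁ (A u) (A v) = μ * pol q₁ u v) :
    ∃ s : F, s ≠ 0 ∧ μ = s ^ 2 := by
  set G : Matrix α α F := Matrix.of fun i j => pol q₁ (Pi.single i 1) (Pi.single j 1) with hG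
  have hGv : ∀ u v, u ⬝ᵥ (G *ᵥ v) = pol q₁ u v := by
    intro u v
    have h1 : G *ᵥ v = row q₁ v := funext fun i => by
      show ∑ j, pol q₁ (Pi.single i 1) (Pi.single j 1) * v j = Orth.formQ hq v (Pi.single i 1)
      rw [Orth.formQ_apply, show pol q₁ (Pi.single i (1 : F)) v = Orth.formQ hq (Pi.single i 1) v by
        rw [Orth.formQ_apply, Orth.pol_comm]]
      conv_rhs => rw [pi_eq_sum_univ' v, map_sum]
      refine Finset.sum_congr rfl fun j _ => ?_
      rw [map_smul, Orth.formQ_apply, smul_eq_mul, Orth.pol_comm, mul_comm]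
    rw [h1, dotProduct_comm, row_dot hq]
  have hdet : G.det ≠ 0 := by
    have hu := (Matrix.mulVec_injective_iff_isUnit (A := G)).1 fun v w hvw => by
      refine sub_eq_zero.1 (eq_zero_of_orth hq fun x => ?_)
      rw [Orth.pol_comm, ← hGv, Matrix.mulVec_sub, hvw, sub_self, dotProduct_zero]
    exact ((Matrix.isUnit_iff_isUnit_det G).1 hu).ne_zero
  have hAG : (LinearMap.toMatrix' A)ᵀ * G * LinearMap.toMatrix' A = μ • G := by
    refine Matrix.toLin'.injective (LinearMap.ext fun v => dotProduct_eq _ _ fun u => ?_)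
    simp only [Matrix.toLin'_apply]
    rw [dotProduct_comm, dotProduct_comm _ u, ← Matrix.mulVec_mulVec, ← Matrix.mulVec_mulVec,
      Matrix.dotProduct_mulVec u (LinearMap.toMatrix' A)ᵀ, Matrix.vecMul_transpose, LinearMap.toMatrix'_mulVec,
      LinearMap.toMatrix'_mulVec, hGv, hA, Matrix.smul_mulVec, dotProduct_smul, hGv, smul_eq_mul]
  have e := congrArg Matrix.det hAG
  rw [Matrix.det_mul, Matrix.det_mul, Matrix.det_transpose, Matrix.det_smul] at e
  obtain ⟨k, hk⟩ := hodd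
  set D := (LinearMap.toMatrix' A).det with hD
  have hD2 : D ^ 2 = μ ^ (2 * k + 1) := mul_right_cancel₀ hdet (by rw [← hk]; linear_combination e)
  have hμk : μ ^ k ≠ 0 := pow_ne_zero _ hμ
  refine ⟨D / μ ^ k, fun h => ?_, ?_⟩
  · rcases div_eq_zero_iff.1 h with h | h
    · rw [h, zero_pow two_ne_zero] at hD2
      exact pow_ne_zero _ hμ hD2.symm
    · exact hμk h
  · rw [div_pow, eq_div_iff (pow_ne_zero 2 hμk), hD2]
    ring

/-- A member conjugating, up to sign, a factor reflection to a Kronecker product maps a line to the line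
of the mirror. -/
theorem mirror_line [Finite F] (C : Ctx Q q₁ q₂ M) (hodd : Odd (Fintype.card α)) {κ : F} (hκ : κ ≠ 0)
    {g m : GL (α × β) F} (hg : g ∈ M) {z : β → F} (hz : q₂ z = κ) {ε : F} (hε : ε * ε = 1)
    (hm : ∀ u w, mv m (ten u w) = ε • ten u (w - (pol q₂ w z / κ) • z)) (hk : IsKron (g⁻¹ * m * g)) :
    ∃ (z' : β → F) (A : (α → F) →ₗ[F] α → F), q₂ z' = κ ∧
      (∀ u, mv g (ten u z') = ten (A u) z) ∧ (∀ u v, pol q₁ (A u) (A v) = pol q₁ u v) := by
  classical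
  haveI : Nonempty α := Fintype.card_pos_iff.1 (by have := C.hα; omega)
  have hz0 : z ≠ 0 := fun h => hκ (by rw [← hz, h, Orth.q_zero C.h₂])
  have hmx : ∀ x, mv m x = ε • (x - ten (κ⁻¹ • pc q₂ z x) z) := by
    intro x
    have e : mvLin m = ε • (LinearMap.id - (rho z).comp (κ⁻¹ • pc q₂ z)) := ext_ten fun u w => by
      rw [Matrix.toLin'_apply]
      show mv m (ten u w) = _
      rw [hm, LinearMap.smul_apply, LinearMap.sub_apply, LinearMap.id_apply, LinearMap.comp_apply,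
        LinearMap.smul_apply, pc_ten C, rho_apply, div_eq_inv_mul]
      funext i
      simp only [ten, Pi.smul_apply, Pi.sub_apply, smul_eq_mul]
      ring
    have := LinearMap.congr_fun e x
    rw [Matrix.toLin'_apply] at this
    exact this
  obtain ⟨h', hh'⟩ : ∃ h' : GL (α × β) F, ∀ x, mv h' x = ε • mv (g⁻¹ * m * g) x := by
    rcases mul_self_eq_one_iff.1 hε with h | h
    · exact ⟨g⁻¹ * m * g, fun x => by rw [h, one_smul]⟩
    · refine ⟨-(g⁻¹ * m * g), fun x => ?_⟩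
      rw [h, neg_one_smul]
      show (↑(-(g⁻¹ * m * g)) : Matrix (α × β) (α × β) F) *ᵥ x = _
      rw [Units.val_neg, Matrix.neg_mulVec]
  obtain ⟨A₀, B₀, hAB⟩ := mv_kron_ten hk
  have hεB : ∃ B' : GL β F, ∀ w, mv B' w = ε • mv B₀ w := by
    rcases mul_self_eq_one_iff.1 hε with h | h
    · exact ⟨B₀, fun x => by rw [h, one_smul]⟩
    · refine ⟨-B₀, fun x => ?_⟩
      rw [h, neg_one_smul]
      show (↑(-B₀) : Matrix β β F) *ᵥ x = _
      rw [Units.val_neg, Matrix.neg_mulVec]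
  obtain ⟨B', hB'⟩ := hεB
  have hAB' : ∀ u w, mv h' (ten u w) = ten (mv A₀ u) (mv B' w) := fun u w => by
    rw [hh', hAB, hB', ten_smul_right]
  set X := mvLin h' - LinearMap.id with hX
  have hXx : ∀ x, X x = mv g⁻¹ (ten (-(κ⁻¹) • pc q₂ z (mv g x)) z) := fun x => by
    rw [hX, LinearMap.sub_apply, Matrix.toLin'_apply, LinearMap.id_apply]
    show mv h' x - x = _
    rw [hh', mv_mul, mv_mul, hmx, mv_smul, smul_smul, hε, one_smul, mv_sub, mv_inv_mv,
      sub_sub_cancel_left, ← mv_neg, neg_smul, ten_neg_left]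
  have hrange : LinearMap.range X = (line α z).map (mvLin g⁻¹) := by
    refine le_antisymm ?_ fun y hy => ?_
    · rintro _ ⟨x, rfl⟩
      rw [hXx]
      exact mem_map_mv.2 ⟨_, ten_mem_line _ _, rfl⟩
    · obtain ⟨x, hx, rfl⟩ := mem_map_mv.1 hy
      obtain ⟨u, rfl⟩ := mem_line.1 hx
      refine ⟨mv g⁻¹ (ten ((-(κ⁻¹) * pol q₂ z z)⁻¹ • u) z), ?_⟩
      rw [hXx, mv_mv_inv, pc_ten C, smul_smul, smul_smul, mul_inv_cancel₀, one_smul]
      exact mul_ne_zero (neg_ne_zero.2 (inv_ne_zero hκ)) (by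
        rw [Orth.pol_self C.h₂, hz]; exact mul_ne_zero C.two hκ)
  have hdim : Module.finrank F (LinearMap.range X) = Fintype.card α := by
    rw [hrange, finrank_map_mv, finrank_line hz0]
  obtain ⟨r, hr⟩ := scalar_of_small hAB' (by rw [← hX, hdim]; have := C.hαβ; omega)
  obtain ⟨Γ, hΓ⟩ : ∃ Γ : (β → F) →ₗ[F] β → F, ∀ w, Γ w = r • mv B' w - w :=
    ⟨r • mvLin B' - LinearMap.id, fun w => by simp [mv]⟩
  have hXΓ : ∀ u w, X (ten u w) = ten u (Γ w) := fun u w => by
    rw [hX, LinearMap.sub_apply, Matrix.toLin'_apply, LinearMap.id_apply]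
    show mv h' (ten u w) - _ = _
    rw [hAB', hr, hΓ]
    funext i
    simp [ten]
    ring
  obtain ⟨w₀, hw₀⟩ : ∃ w, Γ w ≠ 0 := by
    by_contra hcon
    push Not at hcon
    have : X = 0 := ext_ten fun u w => by rw [hXΓ, hcon, ten_zero_right, LinearMap.zero_apply]
    rw [this, LinearMap.range_zero, finrank_bot] at hdim
    have := C.hα
    omega
  obtain ⟨z₁, hz₁⟩ : ∃ z₁, z₁ = Γ w₀ := ⟨_, rfl⟩
  rw [← hz₁] at hw₀
  have hline : line α z₁ = (line α z).map (mvLin g⁻¹) := by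
    rw [← hrange]
    refine Submodule.eq_of_le_of_finrank_le ?_ (by rw [hdim, finrank_line hw₀])
    intro y hy
    obtain ⟨u, rfl⟩ := mem_line.1 hy
    exact ⟨ten u w₀, by rw [hXΓ, hz₁]⟩
  obtain ⟨θ, hθ⟩ := exists_dot_one hz0
  obtain ⟨A₁, hA₁⟩ : ∃ A₁ : (α → F) →ₗ[F] α → F, ∀ u, mv g (ten u z₁) = ten (A₁ u) z := by
    refine ⟨(ctr θ).comp ((mvLin g).comp (rho z₁)), fun u => ?_⟩
    obtain ⟨y, hy, hye⟩ := mem_map_mv.1 (show ten u z₁ ∈ (line α z).map (mvLin g⁻¹) from hline ▸ ten_mem_line u z₁)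
    obtain ⟨v, rfl⟩ := mem_line.1 hy
    rw [LinearMap.comp_apply, LinearMap.comp_apply, rho_apply, Matrix.toLin'_apply]
    show mv g (ten u z₁) = ten (ctr θ (mv g (ten u z₁))) z
    rw [← hye, mv_mv_inv, ctr_ten, hθ, one_smul]
  have hzz : pol q₂ z z = 2 * κ := by rw [Orth.pol_self C.h₂, hz]
  have hiso : ∀ u v, pol q₁ (A₁ u) (A₁ v) = (q₂ z₁ / κ) * pol q₁ u v := fun u v => by
    have e := C.iso hg (ten u z₁) (ten v z₁)
    rw [hA₁, hA₁, C.hpol, C.hpol, hzz, Orth.pol_self C.h₂] at e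
    rw [div_mul_eq_mul_div, eq_div_iff hκ]
    exact mul_left_cancel₀ C.two (by linear_combination e)
  have hμ : q₂ z₁ / κ ≠ 0 := by
    intro h0
    obtain ⟨i₀⟩ := ‹Nonempty α›
    obtain ⟨v, -, hv⟩ := Orth.exists_anisotropic C.h₁ (Orth.nondeg_top C.h₁) (fun h => by
      have := C.hα
      have e := congrArg (fun S : Submodule F (α → F) => Module.finrank F S) h
      simp only [finrank_top, Module.finrank_pi, finrank_bot] at e
      omega)
    obtain ⟨u, hu⟩ := mem_line.1 (show mv g⁻¹ (ten v z) ∈ line α z₁ by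
      rw [hline]; exact mem_map_mv.2 ⟨_, ten_mem_line _ _, rfl⟩)
    have e := congrArg (fun x => Q x) hu
    simp only [C.q_ten, Orth.mem_isometry.1 (C.le (M.inv_mem hg))] at e
    rw [(div_eq_zero_iff.1 h0).resolve_right hκ, mul_zero, hz] at e
    exact hv ((mul_eq_zero.1 ((mul_eq_zero.1 e.symm).resolve_right hκ)).resolve_left C.two)
  obtain ⟨s, hs0, hs⟩ := similitude_square C.h₁ hodd A₁ hμ hiso
  refine ⟨s⁻¹ • z₁, s⁻¹ • A₁, ?_, fun u => ?_, fun u v => ?_⟩
  · rw [Orth.q_smul C.h₂, inv_pow, ← hs, inv_div, div_mul_cancel₀]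
    exact fun h => hμ (by rw [h, zero_div])
  · rw [ten_smul_right, mv_smul, hA₁, LinearMap.smul_apply, ten_smul_left]
  · rw [LinearMap.smul_apply, LinearMap.smul_apply, Orth.pol_smul_left C.h₁, Orth.pol_smul_right C.h₁, hiso, hs]
    field_simp

/-- Some member outside the Kronecker products sends a singular pure tensor with singular factors to a
multiple of itself. -/
theorem exists_meet [Fintype F] (C : Ctx Q q₁ q₂ M) (hbig : 4 ≤ Fintype.card α ∨ 5 ≤ Fintype.card F)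
    (hC : CentreTriv q₂ M) (hMid : MiddleShear q₂ M) (hmir : Mirror (α := α) q₂ M)
    {g : GL (α × β) F} (hg : g ∈ M) (hgk : ¬ IsKron g) :
    ∃ h ∈ M, ¬ IsKron h ∧ ∃ c : β → F, c ≠ 0 ∧ q₂ c = 0 ∧ ∃ u : α → F, u ≠ 0 ∧ q₁ u = 0 ∧
      ∃ ε : F, mv h (ten u c) = ε • ten u c := by
  classical
  by_contra hnone
  push Not at hnone
  obtain ⟨u₀, -, hu₀0, hu₀⟩ := Orth.exists_singular C.h₁ (X := ⊤)
    (by rw [finrank_top, Module.finrank_pi]; exact C.hα)
  obtain ⟨Sy, hSy⟩ : ∃ Sy : (β → F) → Submodule F (β → F),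
      ∀ c w, w ∈ Sy c ↔ pc q₂ w (mv g (ten u₀ c)) = 0 := by
    refine ⟨fun c =>
      { carrier := {w | pc q₂ w (mv g (ten u₀ c)) = 0}
        add_mem' := fun {a b} ha hb => by
          show pc q₂ (a + b) _ = 0
          rw [pc_add_vec C, LinearMap.add_apply, show pc q₂ a (mv g (ten u₀ c)) = 0 from ha,
            show pc q₂ b (mv g (ten u₀ c)) = 0 from hb, add_zero]
        zero_mem' := by
          show pc q₂ (0 : β → F) _ = 0
          rw [← zero_smul F (0 : β → F), pc_smul_vec C, zero_smul, LinearMap.zero_apply]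
        smul_mem' := fun t a ha => by
          show pc q₂ (t • a) _ = 0
          rw [pc_smul_vec C, LinearMap.smul_apply, show pc q₂ a (mv g (ten u₀ c)) = 0 from ha, smul_zero] },
      fun c w => Iff.rfl⟩
  -- no singular line with an orthogonal companion
  have hA : ∀ c, c ≠ 0 → q₂ c = 0 → ∀ c', c' ∈ Sy c → c' ≠ 0 → q₂ c' = 0 → ∀ v ∈ Sy c, pol q₂ c' v = 0 →
      v ∈ Submodule.span F {c'} := by
    intro c hc0 hc c' hc'S hc'0 hc' v hvS hcv
    by_contra hv
    obtain ⟨E, hE, -, hEx⟩ := exists_shear C hc' hcv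
    have hfix : mv E (mv g (ten u₀ c)) = mv g (ten u₀ c) := by
      rw [hEx, (hSy c c').1 hc'S, (hSy c v).1 hvS]
      simp [ten_zero_left]
    refine hnone (g⁻¹ * E * g) (M.mul_mem (M.mul_mem (M.inv_mem hg) hE) hg) (fun hk => hgk ?_) c hc0 hc u₀ hu₀0 hu₀
      1 (by rw [mv_mul, mv_mul, hfix, mv_inv_mv, one_smul])
    have := isKron_inv (kron_of_conj C hC hMid (M.inv_mem hg) hc'0 hc' hcv hv hE hEx (by rwa [inv_inv]))
    rwa [inv_inv] at this
  have hsmall : ∀ c, c ≠ 0 → q₂ c = 0 → Module.finrank F (Sy c) ≤ 2 := by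
    intro c hc0 hc
    by_contra hge
    obtain ⟨c', hc'S, hc'0, hc'⟩ := Orth.exists_singular C.h₂ (X := Sy c) (by omega)
    let f : Sy c →ₗ[F] F := (Orth.formQ C.h₂ c').comp (Sy c).subtype
    have h1 := LinearMap.finrank_range_add_finrank_ker f
    have h2 := Submodule.finrank_le (LinearMap.range f)
    rw [Module.finrank_self] at h2
    have h3 : (LinearMap.ker f).map (Sy c).subtype ≤ Submodule.span F {c'} := by
      rintro _ ⟨v, hv, rfl⟩
      exact hA c hc0 hc c' hc'S hc'0 hc' v v.2 (by rw [Orth.pol_comm]; exact LinearMap.mem_ker.1 hv)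
    have h4 := Submodule.finrank_mono h3
    rw [Submodule.finrank_map_subtype_eq, finrank_span_singleton hc'0] at h4
    omega
  have hrank : ∀ c, Fintype.card β ≤ Module.finrank F (Sy c) + Fintype.card α := by
    intro c
    let L : (β → F) →ₗ[F] α → F :=
      { toFun := fun w => pc q₂ w (mv g (ten u₀ c))
        map_add' := fun a b => by rw [pc_add_vec C, LinearMap.add_apply]
        map_smul' := fun t a => by rw [pc_smul_vec C, LinearMap.smul_apply]; rfl }
    have hker : LinearMap.ker L = Sy c := Submodule.ext fun w => by rw [LinearMap.mem_ker, hSy]; rfl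
    have h1 := LinearMap.finrank_range_add_finrank_ker L
    have h2 := Submodule.finrank_le (LinearMap.range L)
    rw [Module.finrank_pi] at h2
    rw [hker, Module.finrank_pi] at h1
    omega
  obtain ⟨c₀, -, hc₀0, hc₀⟩ := Orth.exists_singular C.h₂ (X := ⊤)
    (by rw [finrank_top, Module.finrank_pi]; have := C.hβ; omega)
  rcases hmir with hgap | ⟨hodd, κ, hκ, hmir⟩
  · have := hrank c₀
    have := hsmall c₀ hc₀0 hc₀
    omega
  have hdim : ∀ c, c ≠ 0 → q₂ c = 0 →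
      Module.finrank F (Sy c) = 2 ∧ Orth.Nondeg q₂ (Sy c) ∧ Fintype.card β = Fintype.card α + 2 := by
    intro c hc0 hc
    have := hrank c
    have := hsmall c hc0 hc
    have := C.hαβ
    have hd : Module.finrank F (Sy c) = 2 := by omega
    refine ⟨hd, fun r hr h => ?_, by omega⟩
    by_contra hr0
    have hrr : q₂ r = 0 := by
      have := h r hr
      rw [Orth.pol_self C.h₂] at this
      exact (mul_eq_zero.1 this).resolve_left C.two
    have h3 : Sy c ≤ Submodule.span F {r} := fun v hv =>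
      hA c hc0 hc r hr hr0 hrr v hv (by rw [Orth.pol_comm]; exact h v hv)
    have h4 := Submodule.finrank_mono h3
    rw [finrank_span_singleton hr0] at h4
    omega
  obtain ⟨u₁, hu₁⟩ := exists_pair C.h₁ hu₀0 hu₀
  -- the mirror lines
  have hmap : ∀ c, c ≠ 0 → q₂ c = 0 → ∀ z ∈ Sy c, q₂ z = κ →
      ∃ (z' : β → F) (A : (α → F) →ₗ[F] α → F), q₂ z' = κ ∧
        (∀ u, mv g (ten u z') = ten (A u) z) ∧ (∀ u v, pol q₁ (A u) (A v) = pol q₁ u v) ∧ pol q₂ c z' = 0 := by
    intro c hc0 hc z hzS hz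
    obtain ⟨m, hm, ε, hε, hmx⟩ := hmir z hz
    have hmy : mv m (mv g (ten u₀ c)) = ε • mv g (ten u₀ c) := by
      have e : mvLin m = ε • (LinearMap.id - (rho z).comp (κ⁻¹ • pc q₂ z)) := ext_ten fun u w => by
        rw [Matrix.toLin'_apply]
        show mv m (ten u w) = _
        rw [hmx, LinearMap.smul_apply, LinearMap.sub_apply, LinearMap.id_apply, LinearMap.comp_apply,
          LinearMap.smul_apply, pc_ten C, rho_apply, div_eq_inv_mul]
        funext i
        simp only [ten, Pi.smul_apply, Pi.sub_apply, smul_eq_mul]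
        ring
      have := LinearMap.congr_fun e (mv g (ten u₀ c))
      rw [Matrix.toLin'_apply, LinearMap.smul_apply, LinearMap.sub_apply, LinearMap.id_apply,
        LinearMap.comp_apply, LinearMap.smul_apply, (hSy c z).1 hzS, smul_zero, map_zero, sub_zero] at this
      exact this
    by_cases hk : IsKron (g⁻¹ * m * g)
    swap
    · exact absurd (by rw [mv_mul, mv_mul, hmy, mv_smul, mv_inv_mv])
        (hnone _ (M.mul_mem (M.mul_mem (M.inv_mem hg) hm) hg) hk c hc0 hc u₀ hu₀0 hu₀ ε)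
    obtain ⟨z', A, hz', hgA, hA'⟩ := mirror_line C hodd hκ hg hz hε hmx hk
    refine ⟨z', A, hz', hgA, hA', ?_⟩
    have e := C.iso hg (ten u₀ c) (ten u₁ z')
    rw [hgA, C.hpol, hu₁.2, C.pol_pc, (hSy c z).1 hzS, Orth.pol_zero_left C.h₁, one_mul] at e
    exact e.symm
  have hval : ∀ c, c ≠ 0 → q₂ c = 0 → ∃ z ∈ Sy c, q₂ z = κ := fun c hc0 hc => by
    obtain ⟨hd, hn, -⟩ := hdim c hc0 hc
    exact Orth.exists_value_plane C.h₂ C.two hn hd.ge κ
  -- a vector in few lines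
  have hfew : ∀ c, c ≠ 0 → q₂ c = 0 → ∀ P : Submodule F (β → F), Module.finrank F P + 3 ≤ Fintype.card β →
      (∀ w, (∀ x ∈ P, pol q₂ x w = 0) → pc q₂ w (mv g (ten u₀ c)) = 0) → False := by
    intro c hc0 hc P hP h
    have hle : Orth.orth C.h₂ P ≤ Sy c := fun w hw => (hSy c w).2 (h w fun x hx => hw x hx)
    have := Submodule.finrank_mono hle
    have := Orth.le_finrank_orth C.h₂ P
    have := hsmall c hc0 hc
    omega
  obtain ⟨z₁, hz₁S, hz₁⟩ := hval c₀ hc₀0 hc₀
  obtain ⟨z₁', A₁, hz₁', hg₁, hA₁, -⟩ := hmap c₀ hc₀0 hc₀ z₁ hz₁S hz₁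
  have hz₁'0 : z₁' ≠ 0 := fun h => hκ (by rw [← hz₁', h, Orth.q_zero C.h₂])
  obtain ⟨c₂, -, hc₂, hc₂z⟩ := Orth.exists_singular_not_orth C.h₂ (Orth.nondeg_top C.h₂)
    (by rw [finrank_top, Module.finrank_pi]; have := C.hβ; omega) (Submodule.mem_top (x := z₁')) hz₁'0
  have hc₂0 : c₂ ≠ 0 := fun h => hc₂z (by rw [h, Orth.pol_zero_right C.h₂])
  obtain ⟨z₂, hz₂S, hz₂⟩ := hval c₂ hc₂0 hc₂
  obtain ⟨z₂', A₂, hz₂', hg₂, hA₂, hc₂z₂⟩ := hmap c₂ hc₂0 hc₂ z₂ hz₂S hz₂
  have hz₂'0 : z₂' ≠ 0 := fun h => hκ (by rw [← hz₂', h, Orth.q_zero C.h₂])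
  set P := Submodule.span F ({z₁', z₂'} : Set (β → F)) with hPdef
  have hz₁P : z₁' ∈ P := Submodule.subset_span (Set.mem_insert _ _)
  have hz₂P : z₂' ∈ P := Submodule.subset_span (Set.mem_insert_of_mem _ rfl)
  have hgen : ∀ (x : α × β → F) {w a b : β → F} (r s : α → F), x = ten r a + ten s b → pol q₂ a w = 0 →
      pol q₂ b w = 0 → pc q₂ w x = 0 := by
    intro x w a b r s hx h1 h2
    rw [hx, map_add, pc_ten C, pc_ten C, h1, h2, zero_smul, zero_smul, add_zero]
  have hPaniso : ∀ c ∈ P, c ≠ 0 → q₂ c ≠ 0 := by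
    intro c hcP hc0 hc
    obtain ⟨a, b, rfl⟩ := Submodule.mem_span_pair.1 hcP
    refine hfew _ hc0 hc (Submodule.span F {z₁, z₂}) (by
      have := finrank_span_pair_le z₁ z₂; have := C.hβ; omega) fun w hw => ?_
    refine hgen _ (a • A₁ u₀) (b • A₂ u₀) ?_ (hw _ (Submodule.subset_span (Set.mem_insert _ _)))
      (hw _ (Submodule.subset_span (Set.mem_insert_of_mem _ rfl)))
    rw [ten_add_right, ten_smul_right, ten_smul_right, mv_add, mv_smul, mv_smul, hg₁, hg₂, ten_smul_left,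
      ten_smul_left]
  have hPn : Orth.Nondeg q₂ P := fun r hr h => by
    by_contra hr0
    refine hPaniso r hr hr0 ?_
    have := h r hr
    rw [Orth.pol_self C.h₂] at this
    exact (mul_eq_zero.1 this).resolve_left C.two
  have hind : LinearIndependent F ![z₁', z₂'] := by
    rw [LinearIndependent.pair_iff]
    intro a b hab
    have h1 := congrArg (fun v => pol q₂ c₂ v) hab
    simp only [Orth.pol_add_right C.h₂, Orth.pol_smul_right C.h₂, hc₂z₂, Orth.pol_zero_right C.h₂, mul_zero,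
      add_zero, Orth.pol_comm c₂ z₁'] at h1
    have ha := (mul_eq_zero.1 h1).resolve_right hc₂z
    refine ⟨ha, ?_⟩
    rw [ha, zero_smul, zero_add, smul_eq_zero] at hab
    exact hab.resolve_right hz₂'0
  have hP2 : Module.finrank F P = 2 := by
    have := finrank_span_eq_card hind
    rw [Fintype.card_fin, Matrix.range_cons, Matrix.range_cons, Matrix.range_empty, Set.union_empty,
      Set.singleton_union] at this
    exact this
  -- a third line
  obtain ⟨n, hn⟩ := FiniteField.exists_nonsquare (F := F) (fun h => C.two (by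
    have : CharP F 2 := ringChar.eq_iff.1 h
    exact CharP.cast_eq_zero F 2))
  obtain ⟨r, hrP, hr⟩ := Orth.exists_value_plane C.h₂ C.two hPn hP2.ge (κ * n)
  have hn0 : n ≠ 0 := fun h => hn (h ▸ IsSquare.zero)
  have hr0 : q₂ r ≠ 0 := by rw [hr]; exact mul_ne_zero hκ hn0
  obtain ⟨hRn, hRd⟩ := Orth.nondeg_perp C.h₂ C.two hPn hrP hr0
  obtain ⟨p, hp, hpq⟩ := Orth.exists_anisotropic C.h₂ hRn fun h => by rw [h, finrank_bot] at hRd; omega
  have hpr : pol q₂ r p = 0 := hp.2 r (Submodule.mem_span_singleton_self r)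
  have hPperp := Orth.finrank_inf_orth_add C.h₂ hPn (le_top : P ≤ ⊤)
  rw [hP2, finrank_top, Module.finrank_pi] at hPperp
  obtain ⟨w, hwX, hw⟩ := Orth.exists_value_plane C.h₂ C.two
    (Orth.nondeg_inf_orth C.h₂ hPn (Orth.nondeg_top C.h₂) le_top) (by have := C.hβ; omega) (-q₂ p)
  have hpw : pol q₂ p w = 0 := hwX.2 p hp.1
  have hc₃ : q₂ (p + w) = 0 := by rw [Orth.q_add C.h₂, hw, hpw]; ring
  have hc₃p : ∀ x ∈ P, pol q₂ (p + w) x = pol q₂ p x := fun x hx => by
    rw [Orth.pol_add_left C.h₂, Orth.pol_comm w x, hwX.2 x hx, add_zero]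
  have hc₃0 : p + w ≠ 0 := fun h => by
    have := hc₃p p hp.1
    rw [h, Orth.pol_zero_left C.h₂, Orth.pol_self C.h₂] at this
    exact mul_ne_zero C.two hpq this.symm
  obtain ⟨z₃, hz₃S, hz₃⟩ := hval _ hc₃0 hc₃
  obtain ⟨z₃', A₃, hz₃', hg₃, hA₃, hc₃z₃⟩ := hmap _ hc₃0 hc₃ z₃ hz₃S hz₃
  have hz₃P : z₃' ∉ P := by
    intro hm
    rw [hc₃p _ hm] at hc₃z₃
    obtain ⟨hQn, hQd⟩ := Orth.nondeg_perp C.h₂ C.two hPn hp.1 hpq
    have hmem : z₃' ∈ Submodule.span F {r} := by
      have e : Submodule.span F {r} = P ⊓ Orth.orth C.h₂ (Submodule.span F {p}) := by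
        refine Submodule.eq_of_le_of_finrank_le ((Submodule.span_singleton_le_iff_mem _ _).2 ⟨hrP,
          (Orth.mem_orth_span C.h₂).2 (by rintro x rfl; rw [Orth.pol_comm]; exact hpr)⟩) ?_
        rw [finrank_span_singleton (fun h => hr0 (by rw [h, Orth.q_zero C.h₂]))]
        omega
      rw [e]
      exact ⟨hm, (Orth.mem_orth_span C.h₂).2 (by rintro x rfl; exact hc₃z₃)⟩
    obtain ⟨t, ht⟩ := Submodule.mem_span_singleton.1 hmem
    rw [← ht, Orth.q_smul C.h₂, hr] at hz₃'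
    have h1 : t ^ 2 * n = 1 := mul_left_cancel₀ hκ (by linear_combination hz₃')
    have ht0 : t ≠ 0 := fun h => by rw [h] at h1; simp at h1
    exact hn ⟨t⁻¹, by field_simp; linear_combination h1⟩
  obtain ⟨c₄, hc₄X, hc₄0, hc₄⟩ := Orth.exists_singular C.h₂ (X := P ⊔ Submodule.span F {z₃'}) (by
    have hlt : P < P ⊔ Submodule.span F {z₃'} := lt_of_le_of_ne le_sup_left fun h =>
      hz₃P (h ▸ Submodule.mem_sup_right (Submodule.mem_span_singleton_self z₃'))
    have := Submodule.finrank_lt_finrank_of_lt hlt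
    omega)
  have hy₄ : ∀ w, pol q₂ z₁ w = 0 → pol q₂ z₂ w = 0 → pol q₂ z₃ w = 0 → pc q₂ w (mv g (ten u₀ c₄)) = 0 := by
    intro w h1 h2 h3
    obtain ⟨x, hx, y, hy, rfl⟩ := Submodule.mem_sup.1 hc₄X
    obtain ⟨a, b, rfl⟩ := Submodule.mem_span_pair.1 hx
    obtain ⟨c, rfl⟩ := Submodule.mem_span_singleton.1 hy
    rw [ten_add_right, ten_add_right, ten_smul_right, ten_smul_right, ten_smul_right, mv_add, mv_add, mv_smul,
      mv_smul, mv_smul, hg₁, hg₂, hg₃, map_add, map_add, map_smul, map_smul, map_smul, pc_ten C, pc_ten C,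
      pc_ten C, h1, h2, h3, zero_smul, zero_smul, zero_smul, smul_zero, smul_zero, smul_zero, add_zero, add_zero]
  obtain ⟨hd₄, hn₄, hb⟩ := hdim c₄ hc₄0 hc₄
  set P₃ := Submodule.span F ({z₁, z₂, z₃} : Set (β → F))
  have hP₃ : Module.finrank F P₃ ≤ 3 :=
    (finrank_span_le_card _).trans (by
      rw [Set.toFinset_insert, Set.toFinset_insert, Set.toFinset_singleton]; exact Finset.card_le_three)
  have hle₄ : Orth.orth C.h₂ P₃ ≤ Sy c₄ := fun w hw => (hSy c₄ w).2 (hy₄ w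
    (hw z₁ (Submodule.subset_span (Set.mem_insert _ _)))
    (hw z₂ (Submodule.subset_span (Set.mem_insert_of_mem _ (Set.mem_insert _ _))))
    (hw z₃ (Submodule.subset_span (Set.mem_insert_of_mem _ (Set.mem_insert_of_mem _ rfl)))))
  have ha3 : Fintype.card α = 3 := by
    have := Submodule.finrank_mono hle₄
    have := Orth.le_finrank_orth C.h₂ P₃
    obtain ⟨k, hk⟩ := hodd
    have := C.hα
    omega
  have h5 : 5 ≤ Fintype.card F := hbig.resolve_left (by omega)
  have heq₄ : Orth.orth C.h₂ P₃ = Sy c₄ := Submodule.eq_of_le_of_finrank_le hle₄ (by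
    have := Orth.le_finrank_orth C.h₂ P₃
    omega)
  have horth : ∀ z ∈ Sy c₄, pol q₂ z₁ z = 0 := fun z hz => by
    rw [← heq₄] at hz
    exact hz z₁ (Submodule.subset_span (Set.mem_insert _ _))
  -- two further lines, not orthogonal
  obtain ⟨z₄, hz₄S, hz₄⟩ := hval c₄ hc₄0 hc₄
  have hz₄0 : z₄ ≠ 0 := fun h => hκ (by rw [← hz₄, h, Orth.q_zero C.h₂])
  obtain ⟨hWn, hWd⟩ := Orth.nondeg_perp C.h₂ C.two hn₄ hz₄S (hz₄ ▸ hκ)
  obtain ⟨w₄, hw₄, hw₄q⟩ := Orth.exists_anisotropic C.h₂ hWn fun h => by rw [h, finrank_bot] at hWd; omega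
  have hzw : pol q₂ z₄ w₄ = 0 := hw₄.2 z₄ (Submodule.mem_span_singleton_self z₄)
  obtain ⟨z₅, hz₅S, hz₅, hz₅w⟩ := Orth.exists_value_not_orth C.h₂ C.two h5 hn₄ hd₄ hw₄.1
    (fun h => hw₄q (by rw [h, Orth.q_zero C.h₂])) hκ
  have hz₅n : ∀ t : F, z₅ ≠ t • z₄ := fun t h => hz₅w (by rw [h, Orth.pol_smul_left C.h₂, hzw, mul_zero])
  obtain ⟨z₄', A₄, hz₄', hg₄, hA₄, -⟩ := hmap c₄ hc₄0 hc₄ z₄ hz₄S hz₄
  obtain ⟨i₀⟩ : Nonempty α := Fintype.card_pos_iff.1 (by omega)
  have hinj : ∀ {A : (α → F) →ₗ[F] α → F}, (∀ u v, pol q₁ (A u) (A v) = pol q₁ u v) →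
      Function.Injective A := fun {A} hA => LinearMap.ker_eq_bot.1 (LinearMap.ker_eq_bot'.2 fun u hu =>
    eq_zero_of_orth C.h₁ fun v => by rw [← hA, hu, Orth.pol_zero_left C.h₁])
  have hAu₀ : ∀ {A : (α → F) →ₗ[F] α → F}, (∀ u v, pol q₁ (A u) (A v) = pol q₁ u v) → A u₀ ≠ 0 :=
    fun {A} hA h => hu₀0 (hinj hA (h.trans (map_zero A).symm))
  -- companions spanning a plane
  have hpair : ∀ z, q₂ z = κ → z ∈ Sy c₄ → (∀ t : F, z ≠ t • z₄) →
      ∃ (z' : β → F) (A : (α → F) →ₗ[F] α → F), q₂ z' = κ ∧ (∀ u, mv g (ten u z') = ten (A u) z) ∧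
        (∀ u v, pol q₁ (A u) (A v) = pol q₁ u v) ∧ (∀ t : F, z' ≠ t • z₄') ∧
        (∀ c ∈ Submodule.span F ({z₄', z'} : Set (β → F)), c ≠ 0 → q₂ c ≠ 0) := by
    intro z hz hzS hzn
    obtain ⟨z', A, hz', hgA, hA', -⟩ := hmap c₄ hc₄0 hc₄ z hzS hz
    refine ⟨z', A, hz', hgA, hA', fun t ht => ?_, fun c hc hc0 hcq => ?_⟩
    · have e := hgA u₀
      rw [ht, ten_smul_right, mv_smul, hg₄, ← ten_smul_left] at e
      obtain ⟨θ, hθ⟩ := exists_dot_one (hAu₀ hA')
      have := congrArg (ctrL θ) e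
      rw [ctrL_ten, ctrL_ten, hθ, one_smul] at this
      exact hzn _ this.symm
    · obtain ⟨a, b, rfl⟩ := Submodule.mem_span_pair.1 hc
      refine hfew _ hc0 hcq (Submodule.span F {z₄, z}) (by have := finrank_span_pair_le z₄ z; omega) fun w hw => ?_
      refine hgen _ (a • A₄ u₀) (b • A u₀) ?_ (hw _ (Submodule.subset_span (Set.mem_insert _ _)))
        (hw _ (Submodule.subset_span (Set.mem_insert_of_mem _ rfl)))
      rw [ten_add_right, ten_smul_right, ten_smul_right, mv_add, mv_smul, mv_smul, hg₄, hgA, ten_smul_left,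
        ten_smul_left]
  obtain ⟨z, hz, hzS, hzn, hz45⟩ : ∃ z, q₂ z = κ ∧ z ∈ Sy c₄ ∧ (∀ t : F, z ≠ t • z₄) ∧ pol q₂ z₄ z ≠ 0 := by
    by_cases h45 : pol q₂ z₄ z₅ = 0
    swap
    · exact ⟨z₅, hz₅, hz₅S, hz₅n, h45⟩
    -- turn the orthogonal pair
    by_cases hneg : IsSquare (-1 : F)
    · exfalso
      obtain ⟨i, hi⟩ := hneg
      obtain ⟨z', A, hz', hgA, hA', hn', haniso⟩ := hpair z₅ hz₅ hz₅S hz₅n
      have h45' : pol q₂ z₄' z' = 0 := by
        have e := C.iso hg (ten u₀ z₄') (ten u₁ z')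
        rw [hg₄, hgA, C.hpol, C.hpol, h45, hu₁.2, mul_zero, one_mul] at e
        exact e.symm
      refine haniso (z₄' + i • z') (Submodule.add_mem _ (Submodule.subset_span (Set.mem_insert _ _))
        (Submodule.smul_mem _ _ (Submodule.subset_span (Set.mem_insert_of_mem _ rfl)))) (fun h => ?_) ?_
      · have := congrArg (fun v => pol q₂ v z₄') h
        simp only [Orth.pol_add_left C.h₂, Orth.pol_smul_left C.h₂, Orth.pol_comm z' z₄', h45', Orth.pol_self C.h₂,
          hz₄', Orth.pol_zero_left C.h₂, mul_zero, add_zero] at this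
        exact mul_ne_zero C.two hκ this
      · rw [Orth.q_add C.h₂, Orth.q_smul C.h₂, Orth.pol_smul_right C.h₂, h45', hz₄', hz']
        linear_combination -κ * hi
    obtain ⟨t, ht0, ht1⟩ := Orth.exists_sq_ne_one h5
    have hd : 1 + t ^ 2 ≠ 0 := fun h => hneg ⟨t, by linear_combination -h⟩
    refine ⟨((1 - t ^ 2) / (1 + t ^ 2)) • z₄ + (2 * t / (1 + t ^ 2)) • z₅, ?_,
      (Sy c₄).add_mem ((Sy c₄).smul_mem _ hz₄S) ((Sy c₄).smul_mem _ hz₅S), fun s hs => ?_, ?_⟩
    · rw [Orth.q_add C.h₂, Orth.q_smul C.h₂, Orth.q_smul C.h₂, Orth.pol_smul_left C.h₂, Orth.pol_smul_right C.h₂,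
        h45, hz₄, hz₅]
      field_simp
      ring
    · refine hz₅n ((2 * t / (1 + t ^ 2))⁻¹ * (s - (1 - t ^ 2) / (1 + t ^ 2))) ?_
      rw [mul_smul, sub_smul, ← hs, add_sub_cancel_left, smul_smul,
        inv_mul_cancel₀ (div_ne_zero (mul_ne_zero C.two ht0) hd), one_smul]
    · rw [Orth.pol_add_right C.h₂, Orth.pol_smul_right C.h₂, Orth.pol_smul_right C.h₂, h45, Orth.pol_self C.h₂,
        hz₄, mul_zero, add_zero]
      exact mul_ne_zero (div_ne_zero (sub_ne_zero.2 (Ne.symm ht1)) hd) (mul_ne_zero C.two hκ)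
  obtain ⟨z', A₅, hz', hg₅, hA₅, hn', haniso⟩ := hpair z hz hzS hzn
  obtain ⟨k, hk⟩ : ∃ k, k = pol q₂ z₄' z' / pol q₂ z₄ z := ⟨_, rfl⟩
  have hA45 : ∀ v, A₅ v = k • A₄ v := by
    intro v
    refine sub_eq_zero.1 (eq_zero_of_orth C.h₁ fun x => ?_)
    obtain ⟨u, rfl⟩ := LinearMap.injective_iff_surjective.1 (hinj hA₄) x
    have e := C.iso hg (ten u z₄') (ten v z')
    rw [hg₄, hg₅, C.hpol, C.hpol] at e
    rw [Orth.pol_sub_left C.h₁, Orth.pol_smul_left C.h₁, hA₄, Orth.pol_comm (A₅ v) (A₄ u), Orth.pol_comm v u, hk]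
    refine mul_right_cancel₀ hz45 ?_
    rw [sub_mul, zero_mul, e, mul_right_comm, div_mul_cancel₀ _ hz45]
    ring
  set T := Submodule.span F ({z₄', z'} : Set (β → F))
  have hz₁T : z₁' ∉ T := by
    intro hm
    obtain ⟨a, b, hab⟩ := Submodule.mem_span_pair.1 hm
    have key : ∀ {B : (α → F) →ₗ[F] α → F} {y y' : β → F}, (∀ u, mv g (ten u y') = ten (B u) y) →
        pol q₂ z₁ y = 0 → pol q₂ z₁' y' = 0 := fun {B y y'} hgy h0 => by
      have e := C.iso hg (ten u₀ z₁') (ten u₁ y')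
      rw [hg₁, hgy, C.hpol, C.hpol, h0, hu₁.2, mul_zero, one_mul] at e
      exact e.symm
    have h1 := key hg₄ (horth z₄ hz₄S)
    have h2 := key hg₅ (horth z hzS)
    have : pol q₂ z₁' (a • z₄' + b • z') = 0 := by
      rw [Orth.pol_add_right C.h₂, Orth.pol_smul_right C.h₂, Orth.pol_smul_right C.h₂, h1, h2, mul_zero, mul_zero,
        add_zero]
    rw [hab, Orth.pol_self C.h₂, hz₁'] at this
    exact mul_ne_zero C.two hκ this
  obtain ⟨c₅, hc₅X, hc₅0, hc₅⟩ := Orth.exists_singular C.h₂ (X := T ⊔ Submodule.span F {z₁'}) (by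
    have hlt : T < T ⊔ Submodule.span F {z₁'} := lt_of_le_of_ne le_sup_left fun h =>
      hz₁T (h ▸ Submodule.mem_sup_right (Submodule.mem_span_singleton_self z₁'))
    have h1 := Submodule.finrank_lt_finrank_of_lt hlt
    have h2 : 2 ≤ Module.finrank F T := by
      have hi : LinearIndependent F ![z₄', z'] := by
        rw [LinearIndependent.pair_iff]
        intro a b hab
        have hb : b = 0 := by
          by_contra hb
          exact hn' (-(b⁻¹ * a)) (by
            rw [neg_smul, mul_smul, ← smul_neg, show -(a • z₄') = b • z' by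
              linear_combination (norm := module) -hab, smul_smul, inv_mul_cancel₀ hb, one_smul])
        refine ⟨?_, hb⟩
        rw [hb, zero_smul, add_zero, smul_eq_zero] at hab
        exact hab.resolve_right fun h => hκ (by rw [← hz₄', h, Orth.q_zero C.h₂])
      have := finrank_span_eq_card hi
      rw [Fintype.card_fin, Matrix.range_cons, Matrix.range_cons, Matrix.range_empty, Set.union_empty,
        Set.singleton_union] at this
      exact this.ge
    omega)
  obtain ⟨x, hx, y, hy, rfl⟩ := Submodule.mem_sup.1 hc₅X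
  obtain ⟨a, b, rfl⟩ := Submodule.mem_span_pair.1 hx
  obtain ⟨c, rfl⟩ := Submodule.mem_span_singleton.1 hy
  refine hfew _ hc₅0 hc₅ (Submodule.span F {z₁, a • z₄ + (b * k) • z})
    (by have := finrank_span_pair_le z₁ (a • z₄ + (b * k) • z); omega) fun w hw => ?_
  refine hgen _ (A₄ u₀) (c • A₁ u₀) ?_ (hw _ (Submodule.subset_span (Set.mem_insert_of_mem _ rfl)))
    (hw _ (Submodule.subset_span (Set.mem_insert _ _)))
  rw [ten_add_right, ten_add_right, ten_smul_right, ten_smul_right, ten_smul_right, mv_add, mv_add, mv_smul,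
    mv_smul, mv_smul, hg₄, hg₅, hg₁, hA45, ten_smul_left, ten_smul_left, ten_add_right, ten_smul_right,
    ten_smul_right, smul_smul]

end Cfsg.Agent.OrthTensor
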