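/-
A commuting family of self-adjoint maps stable under conjugation by Siegel elements is scalar.
-/
import Cfsg.Agent.Lib.OrthTensor.Base

set_option autoImplicit false
set_option linter.unusedSectionVars false

namespace Cfsg.Agent.OrthTensor

open scoped Matrix
open Matrix Cfsg.Agent.Transvec
open Cfsg.Agent.Transvec.Orth (pol IsSiegel)

variable {κ : Type} [Fintype κ] [DecidableEq κ] {F : Type*} [Field F] {q : (κ → F) → F}

theorem exists_sq_ne [Fintype F] (h5 : 5 ≤ Fintype.card F) : ∃ l : F, l ≠ 0 ∧ l ^ 2 ≠ 1 := by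
  classical
  obtain ⟨l, hl⟩ : ∃ l : F, l ∉ ({0, 1, -1} : Finset F) := by
    by_contra hcon
    push Not at hcon
    have h := Finset.card_le_card (s := (Finset.univ : Finset F)) (t := {0, 1, -1}) fun x _ => hcon x
    rw [Finset.card_univ] at h
    have := (Finset.card_le_three : ({0, 1, -1} : Finset F).card ≤ 3)
    omega
  simp only [Finset.mem_insert, Finset.mem_singleton, not_or] at hl
  exact ⟨l, hl.1, fun h => (sq_eq_one_iff.1 h).elim hl.2.1 hl.2.2⟩

theorem scalar_of_family [Fintype F] (hq : Geo.IsNondegenerateQuadraticForm q) (h2 : (2 : F) ≠ 0)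
    (h3 : 3 ≤ Fintype.card κ) (hbig : 4 ≤ Fintype.card κ ∨ 5 ≤ Fintype.card F)
    (S : Submodule F ((κ → F) →ₗ[F] κ → F)) (sa : ∀ T ∈ S, ∀ u v, pol q (T u) v = pol q u (T v))
    (comm : ∀ T ∈ S, ∀ T' ∈ S, ∀ u, T (T' u) = T' (T u))
    (conj : ∀ (e y : κ → F) (A : GL κ F), q e = 0 → pol q e y = 0 → IsSiegel q A e y → A ∈ isometryGroup F q →
      ∀ T ∈ S, (mvLin A).comp (T.comp (mvLin A⁻¹)) ∈ S) :
    ∀ T ∈ S, ∃ k : F, ∀ u, T u = k • u := by
  classical
  intro T hT
  by_cases hall : ∃ e, e ≠ 0 ∧ q e = 0 ∧ pol q (T e) e ≠ 0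
  · exfalso
    obtain ⟨e, he0, he, hs0⟩ := hall
    obtain ⟨d, hd, hed⟩ := exists_pair hq he0 he
    obtain ⟨hXn, hXf, hXm⟩ := pair_perp hq he hd hed
    have hee := pol_self_zero hq he
    -- second differences
    have hD : ∀ U ∈ S, ∀ y, pol q y e = 0 → ∃ D ∈ S, ∀ u, D u =
        (-(2 * q y)) • (pol q u (U e) • e + pol q u e • U e) -
        (2 * pol q (U y) e) • (pol q u e • y + pol q u y • e) + (2 * pol q (U e) e * pol q u y) • y +
        ((2 * pol q (U y) y + 2 * q y ^ 2 * pol q (U e) e) * pol q u e) • e := by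
      intro U hU y hye
      have hey : pol q e y = 0 := by rw [Orth.pol_comm, hye]
      have hey' : pol q e (-y) = 0 := by rw [Orth.pol_neg_right hq, hey, neg_zero]
      obtain ⟨A, hA, hAs⟩ := Orth.exists_siegel hq he hey
      obtain ⟨A', hA', hAs'⟩ := Orth.exists_siegel hq he hey'
      have hinv : A⁻¹ = A' := inv_eq_of_mul_eq_one_right (Orth.isSiegel_unique
        (Orth.isSiegel_mul hq he hey hey' hAs hAs') (by rw [add_neg_cancel]; exact Orth.isSiegel_zero hq e))
      refine ⟨(mvLin A).comp (U.comp (mvLin A⁻¹)) + (mvLin A').comp (U.comp (mvLin A'⁻¹)) - (2 : F) • U,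
        S.sub_mem (S.add_mem (conj e y A he hey hAs hA U hU) (conj e (-y) A' he hey' hAs' hA' U hU))
          (S.smul_mem _ hU), fun u => ?_⟩
      have hinv' : A'⁻¹ = A := by rw [← hinv, inv_inv]
      have k1 : pol q (U u) e = pol q u (U e) := sa U hU u e
      have k2 : pol q (U u) y = pol q u (U y) := sa U hU u y
      have k3 : pol q (U e) y = pol q (U y) e := by rw [sa U hU e y, Orth.pol_comm]
      simp only [LinearMap.sub_apply, LinearMap.add_apply, LinearMap.smul_apply, LinearMap.comp_apply,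
        Matrix.toLin'_apply]
      show mv A (U (mv A⁻¹ u)) + mv A' (U (mv A'⁻¹ u)) - (2 : F) • U u = _
      rw [hinv, hinv', hAs' u, hAs u, hAs, hAs']
      simp only [map_add, map_sub, map_smul, map_neg, Orth.pol_add_left hq, Orth.pol_sub_left hq,
        Orth.pol_smul_left hq, Orth.pol_neg_left hq, Orth.pol_neg_right hq, Orth.q_neg hq, k1, k2, k3]
      module
    obtain ⟨y, hyX, hqy⟩ := Orth.exists_anisotropic hq hXn fun h => by rw [h, finrank_bot] at hXf; omega
    obtain ⟨hye, hyd⟩ := (hXm y).1 hyX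
    obtain ⟨r, hr, T₀, hT₀, hT₀u⟩ : ∃ r : F, r ≠ 0 ∧ ∃ T₀ ∈ S, ∀ u, T₀ u = (r * pol q u e) • e := by
      by_cases h4 : 4 ≤ Fintype.card κ
      · obtain ⟨hy₂, hy₂e, hy₂y, hy₂q⟩ : ∃ z, pol q z e = 0 ∧ pol q z y = 0 ∧ q z ≠ 0 := by
          obtain ⟨R, hR⟩ : ∃ R, R = (⊤ : Submodule F (κ → F)) ⊓ Orth.orth hq (Submodule.span F {e, d}) := ⟨_, rfl⟩
          have hY : Orth.Nondeg q (Submodule.span F {y}) := fun u hu h => by
            obtain ⟨t, rfl⟩ := Submodule.mem_span_singleton.1 hu
            have := h y (Submodule.mem_span_singleton_self y)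
            rw [Orth.pol_smul_right hq, Orth.pol_self hq, mul_eq_zero, or_iff_left (mul_ne_zero h2 hqy)] at this
            rw [this, zero_smul]
          have hle : Submodule.span F {y} ≤ R := by
            rw [Submodule.span_singleton_le_iff_mem, hR]; exact hyX
          have hn := Orth.nondeg_inf_orth hq hY (hR ▸ hXn) hle
          have hf := Orth.finrank_inf_orth_add hq hY hle
          rw [finrank_span_singleton (fun h => hqy (by rw [h, Orth.q_zero hq]))] at hf
          obtain ⟨z, hz, hzq⟩ := Orth.exists_anisotropic hq hn fun h => by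
            rw [h, finrank_bot] at hf; rw [← hR] at hXf; omega
          exact ⟨z, ((hXm z).1 (hR ▸ hz.1)).1,
            by rw [Orth.pol_comm]; exact hz.2 y (Submodule.mem_span_singleton_self y), hzq⟩
        obtain ⟨D, hD1, hD1u⟩ := hD T hT y hye
        obtain ⟨D', hD2, hD2u⟩ := hD D hD1 hy₂ hy₂e
        refine ⟨8 * q y * q hy₂ * pol q (T e) e,
          mul_ne_zero (mul_ne_zero (mul_ne_zero (by
            rw [show (8 : F) = 2 * 2 * 2 by norm_num]; exact mul_ne_zero (mul_ne_zero h2 h2) h2) hqy) hy₂q) hs0,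
          D', hD2, fun u => ?_⟩
        rw [hD2u]
        simp only [hD1u, Orth.pol_add_left hq, Orth.pol_sub_left hq, Orth.pol_smul_left hq, Orth.pol_add_right hq,
          Orth.pol_sub_right hq, Orth.pol_smul_right hq, hee, hye, hy₂e, hy₂y, Orth.pol_comm e y,
          Orth.pol_comm e hy₂, Orth.pol_comm y hy₂, Orth.pol_comm e (T e)]
        module
      · have h5 := hbig.resolve_left h4
        obtain ⟨l, hl0, hl1⟩ := exists_sq_ne h5
        obtain ⟨D, hD1, hD1u⟩ := hD T hT y hye
        obtain ⟨D', hD2, hD2u⟩ := hD T hT (l • y) (by rw [Orth.pol_smul_left hq, hye, mul_zero])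
        refine ⟨2 * q y ^ 2 * l ^ 2 * (l ^ 2 - 1) * pol q (T e) e,
          mul_ne_zero (mul_ne_zero (mul_ne_zero (mul_ne_zero h2 (pow_ne_zero 2 hqy)) (pow_ne_zero 2 hl0))
            (sub_ne_zero.2 hl1)) hs0, D' - l ^ 2 • D, S.sub_mem hD2 (S.smul_mem _ hD1), fun u => ?_⟩
        rw [LinearMap.sub_apply, LinearMap.smul_apply, hD1u, hD2u]
        simp only [map_smul, Orth.q_smul hq, Orth.pol_smul_left hq, Orth.pol_smul_right hq]
        module
    -- a conjugate not commuting with it
    obtain ⟨A, hA, hAs⟩ := Orth.exists_siegel hq (y := y) hd (by rw [Orth.pol_comm, hyd])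
    have h₁ := conj d y A hd (by rw [Orth.pol_comm, hyd]) hAs hA T₀ hT₀
    obtain ⟨e', he'⟩ : ∃ e', e' = mv A e := ⟨_, rfl⟩
    have hbee' : pol q e e' ≠ 0 := by
      rw [he', hAs, Orth.pol_sub_right hq, Orth.pol_add_right hq, Orth.pol_smul_right hq, Orth.pol_smul_right hq,
        hee, Orth.pol_comm e y, hye, hed]
      simpa using hqy
    have hconj : ∀ u, ((mvLin A).comp (T₀.comp (mvLin A⁻¹))) u = (r * pol q u e') • e' := fun u => by
      simp only [LinearMap.comp_apply, Matrix.toLin'_apply]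
      show mv A (T₀ (mv A⁻¹ u)) = _
      rw [hT₀u, mv_smul, ← he', he', ← Orth.pol_mv hq hA (mv A⁻¹ u) e, mv_mv_inv]
    have e1 := comm T₀ hT₀ _ h₁ e
    rw [hconj, hT₀u, hT₀u, map_smul, hee, mul_zero, zero_smul] at e1
    simp only [Orth.pol_smul_left hq, Orth.pol_comm e' e, smul_eq_zero, he0, or_false, mul_eq_zero, hr, hbee', false_or] at e1
  -- the maps fixing every singular line are scalar
  push Not at hall
  have hall' : ∀ x, q x = 0 → pol q (T x) x = 0 := fun x hx => by
    by_cases hx0 : x = 0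
    · rw [hx0, Orth.pol_zero_right hq]
    · exact hall x hx0 hx
  obtain ⟨e, -, he0, he⟩ := Orth.exists_singular hq (X := ⊤) (by rw [finrank_top, Module.finrank_pi]; exact h3)
  obtain ⟨d, hd, hed⟩ := exists_pair hq he0 he
  obtain ⟨hXn, hXf, hXm⟩ := pair_perp hq he hd hed
  have hee := pol_self_zero hq he
  have hdd := pol_self_zero hq hd
  have hde : pol q d e = 1 := by rw [Orth.pol_comm, hed]
  set c₁ := pol q (T e) d with hc₁
  set Y := (⊤ : Submodule F (κ → F)) ⊓ Orth.orth hq (Submodule.span F {e, d}) with hY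
  have key : ∀ y ∈ Y, ∀ l : F, 2 * l * pol q (T d) y + l ^ 2 * (pol q (T y) y - 2 * q y * c₁) -
      2 * l ^ 3 * q y * pol q (T e) y = 0 := by
    intro y hy l
    obtain ⟨hye, hyd⟩ := (hXm y).1 hy
    have hx : q (d + l • y - (l ^ 2 * q y) • e) = 0 := by
      simp only [Orth.q_sub hq, Orth.q_add hq, Orth.q_smul hq, he, hd, Orth.pol_smul_right hq,
        Orth.pol_add_left hq, Orth.pol_smul_left hq, hde, Orth.pol_comm d y, hyd, hye]
      ring
    have h := hall' _ hx
    simp only [map_add, map_sub, map_smul, Orth.pol_add_left hq, Orth.pol_sub_left hq, Orth.pol_smul_left hq,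
      Orth.pol_add_right hq, Orth.pol_sub_right hq, Orth.pol_smul_right hq, hall' e he, hall' d hd] at h
    have a1 : pol q (T y) d = pol q (T d) y := by rw [sa T hT y d, Orth.pol_comm]
    have a2 : pol q (T y) e = pol q (T e) y := by rw [sa T hT y e, Orth.pol_comm]
    have a3 : pol q (T d) e = c₁ := by rw [hc₁, sa T hT d e, Orth.pol_comm]
    rw [a1, a2, a3, ← hc₁] at h
    linear_combination h
  have h4' : (4 : F) ≠ 0 := by rw [show (4 : F) = 2 * 2 by norm_num]; exact mul_ne_zero h2 h2
  have hL : ∀ y ∈ Y, pol q (T d) y = q y * pol q (T e) y ∧ pol q (T y) y = 2 * q y * c₁ := fun y hy => by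
    have p := key y hy 1
    have m := key y hy (-1)
    constructor
    · refine mul_left_cancel₀ h4' ?_
      linear_combination p - m
    · refine mul_left_cancel₀ h2 ?_
      linear_combination p + m
  have hh0 : ∀ y ∈ Y, pol q (T e) y = 0 := by
    by_cases h4 : 4 ≤ Fintype.card κ
    · intro z hz
      by_contra hne
      have key2 : ∀ y ∈ Y, ∀ w ∈ Y, q w * pol q (T e) y + pol q y w * pol q (T e) w = 0 := by
        intro y hy w hw
        have p := (hL _ (Y.add_mem hy hw)).1
        have m := (hL _ (Y.sub_mem hy hw)).1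
        simp only [Orth.pol_add_right hq, Orth.pol_sub_right hq, Orth.q_add hq, Orth.q_sub hq, (hL y hy).1,
          (hL w hw).1] at p m
        refine mul_left_cancel₀ h2 ?_
        linear_combination -p - m
      let f : Y →ₗ[F] F := (Orth.formQ hq (T e)).comp Y.subtype
      obtain ⟨y, hy, hy0⟩ := (LinearMap.ker f).ne_bot_iff.1 (LinearMap.ker_ne_bot_of_finrank_lt (by
        rw [Module.finrank_self]; omega))
      have hfy : pol q (T e) (y : κ → F) = 0 := by
        rw [Orth.pol_comm]; exact LinearMap.mem_ker.1 hy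
      have hout : ∀ w ∈ Y, pol q (T e) w ≠ 0 → pol q (y : κ → F) w = 0 := fun w hw hwn => by
        have := key2 y y.2 w hw
        rw [hfy, mul_zero, zero_add] at this
        exact (mul_eq_zero.1 this).resolve_right hwn
      refine hy0 (Subtype.ext (hXn y y.2 fun w hw => ?_))
      rw [Orth.pol_comm]
      by_cases hwn : pol q (T e) w = 0
      · have h1 := hout (w + z) (Y.add_mem hw hz) (by rw [Orth.pol_add_right hq, hwn, zero_add]; exact hne)
        rwa [Orth.pol_add_right hq, hout z hz hne, add_zero] at h1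
      · exact hout w hw hwn
    · obtain ⟨l, hl0, hl1⟩ := exists_sq_ne (hbig.resolve_left h4)
      intro y hy
      by_cases hqy : q y = 0
      · have hsing : Module.finrank F Y ≤ 1 := by omega
        by_contra hne
        have hy0 : y ≠ 0 := fun h => hne (by rw [h, Orth.pol_zero_right hq])
        have hspan : Submodule.span F {y} = Y := Submodule.eq_of_le_of_finrank_le
          ((Submodule.span_singleton_le_iff_mem _ _).2 hy) (by rw [finrank_span_singleton hy0]; exact hsing)
        refine hy0 (hXn y hy fun w hw => ?_)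
        rw [← hspan] at hw
        obtain ⟨t, rfl⟩ := Submodule.mem_span_singleton.1 hw
        rw [Orth.pol_smul_left hq, pol_self_zero hq hqy, mul_zero]
      have h1 := key y hy l
      rw [(hL y hy).1, (hL y hy).2] at h1
      have h2' : 2 * l * q y * (1 - l ^ 2) * pol q (T e) y = 0 := by linear_combination h1
      exact (mul_eq_zero.1 h2').resolve_left
        (mul_ne_zero (mul_ne_zero (mul_ne_zero h2 hl0) hqy) (sub_ne_zero.2 hl1.symm))
  have hd0 : ∀ y ∈ Y, pol q (T d) y = 0 := fun y hy => by rw [(hL y hy).1, hh0 y hy, mul_zero]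
  have hbil : ∀ y ∈ Y, ∀ w ∈ Y, pol q (T y) w = c₁ * pol q y w := by
    intro y hy w hw
    have e1 := (hL _ (Y.add_mem hy hw)).2
    rw [map_add, Orth.pol_add_left hq, Orth.pol_add_right hq, Orth.pol_add_right hq, (hL y hy).2, (hL w hw).2,
      Orth.q_add hq, sa T hT w y, Orth.pol_comm w (T y)] at e1
    refine mul_left_cancel₀ h2 ?_
    linear_combination e1
  refine ⟨c₁, fun u => sub_eq_zero.1 (eq_zero_of_orth hq fun v => ?_)⟩
  have hdec : ∀ u, ∃ a b, ∃ y ∈ Y, u = a • e + b • d + y := fun u =>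
    ⟨pol q u d, pol q u e, u - pol q u d • e - pol q u e • d, (hXm _).2 (pair_decomp hq he hd hed u), by abel⟩
  obtain ⟨a, b, y, hy, rfl⟩ := hdec u
  obtain ⟨a', b', w, hw, rfl⟩ := hdec v
  obtain ⟨hye, hyd⟩ := (hXm y).1 hy
  obtain ⟨hwe, hwd⟩ := (hXm w).1 hw
  have a1 : pol q (T y) d = 0 := by rw [sa T hT y d, Orth.pol_comm, hd0 y hy]
  have a2 : pol q (T y) e = 0 := by rw [sa T hT y e, Orth.pol_comm, hh0 y hy]
  have a3 : pol q (T d) e = c₁ := by rw [hc₁, sa T hT d e, Orth.pol_comm]
  simp only [map_add, map_smul, Orth.pol_add_left hq, Orth.pol_add_right hq, Orth.pol_smul_left hq,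
    Orth.pol_smul_right hq, Orth.pol_sub_left hq, hall' e he, hall' d hd, ← hc₁, a1, a2, a3, hh0 w hw, hd0 w hw,
    hbil y hy w hw, hee, hdd, hed, hde, hye, hyd, Orth.pol_comm e w, Orth.pol_comm d w, hwe, hwd]
  ring

end Cfsg.Agent.OrthTensor
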