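/-
Under a trivial centre, members fixing a singular line and trivial on the middle act there as shears.
-/
import Cfsg.Agent.Lib.OrthTensor.Scalar

set_option autoImplicit false
set_option linter.unusedSectionVars false

namespace Cfsg.Agent.OrthTensor

open scoped Matrix Kronecker
open Matrix Cfsg.Agent.Transvec Cfsg.Agent.TensorMax
open Cfsg.Agent.TensorMax.U (kr mv_kr_ten isKron_kr ext_ten_mv)
open Cfsg.Agent.Transvec.Orth (pol IsSiegel)

variable {α β : Type} [Fintype α] [DecidableEq α] [Fintype β] [DecidableEq β] {F : Type*} [Field F]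
variable {Q : (α × β → F) → F} {q₁ : (α → F) → F} {q₂ : (β → F) → F}
variable {M : Subgroup (GL (α × β) F)}

/-- A map describing a member fixing the line of c on the orthogonal of that line. -/
def InMiddle (q₂ : (β → F) → F) (M : Subgroup (GL (α × β) F)) (c : β → F)
    (Z : (α × β → F) →ₗ[F] α → F) : Prop :=
  (∀ u, Z (ten u c) = 0) ∧ ∃ g ∈ M, ∀ x, pc q₂ c x = 0 → mv g x = x + ten (Z x) c

theorem InMiddle.fix (C : Ctx Q q₁ q₂ M) {c : β → F} (hc : q₂ c = 0) {Z : (α × β → F) →ₗ[F] α → F}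
    (hZ : ∀ u, Z (ten u c) = 0) {g : GL (α × β) F} (hgx : ∀ x, pc q₂ c x = 0 → mv g x = x + ten (Z x) c)
    (u : α → F) : mv g (ten u c) = ten u c := by
  rw [hgx _ (pc_ten_self C hc u), hZ, ten_zero_left, add_zero]

/-- Members of this shape commute. -/
theorem middle_comm (C : Ctx Q q₁ q₂ M) (hC : CentreTriv q₂ M) {c : β → F} (hc0 : c ≠ 0) (hc : q₂ c = 0)
    {Z Z' : (α × β → F) →ₗ[F] α → F} (hZ : ∀ u, Z (ten u c) = 0) (hZ' : ∀ u, Z' (ten u c) = 0)
    {g g' : GL (α × β) F} (hg : g ∈ M) (hg' : g' ∈ M)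
    (hgx : ∀ x, pc q₂ c x = 0 → mv g x = x + ten (Z x) c)
    (hgx' : ∀ x, pc q₂ c x = 0 → mv g' x = x + ten (Z' x) c) : g * g' = g' * g := by
  have h := hC c hc0 hc ((g' * g)⁻¹ * (g * g')) (M.mul_mem (M.inv_mem (M.mul_mem hg' hg)) (M.mul_mem hg hg'))
    fun x hx => by
      rw [mv_mul, mv_eq_iff, inv_inv, mv_mul, mv_mul, hgx' x hx, hgx x hx, mv_add, mv_add, hgx x hx,
        hgx' x hx, InMiddle.fix C hc hZ hgx, InMiddle.fix C hc hZ' hgx']
      abel
  exact (inv_mul_eq_one.1 h).symm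

/-- The contractions of the image of a transversal, from the isometry property. -/
theorem middle_adjoint (C : Ctx Q q₁ q₂ M) {c d : β → F} (hc : q₂ c = 0) (hdc : pol q₂ d c = 1)
    {Z : (α × β → F) →ₗ[F] α → F} (hZ : ∀ u, Z (ten u c) = 0) {g : GL (α × β) F} (hg : g ∈ M)
    (hgx : ∀ x, pc q₂ c x = 0 → mv g x = x + ten (Z x) c) {v : β → F} (hv : pol q₂ c v = 0) (u t : α → F) :
    pol q₁ (pc q₂ v (mv g (ten u d) - ten u d)) t = -pol q₁ u (Z (ten t v)) := by
  have hδ : pc q₂ c (mv g (ten u d) - ten u d) = 0 := by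
    rw [map_sub, disp_perp C (C.le hg) (InMiddle.fix C hc hZ hgx), sub_self]
  have e := C.iso hg (ten u d) (ten t v)
  rw [hgx (ten t v) (by rw [pc_ten C, Orth.pol_comm, hv, zero_smul]),
    show mv g (ten u d) = ten u d + (mv g (ten u d) - ten u d) by abel, Orth.pol_add_left C.hQ,
    Orth.pol_add_right C.hQ, Orth.pol_add_right C.hQ, C.hpol u d (Z (ten t v)) c, hdc, C.pol_pc _ t v,
    C.pol_pc _ (Z (ten t v)) c, hδ, Orth.pol_zero_left C.h₁, C.pol_pc _ t v] at e
  linear_combination e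

/-- Middle maps are self-adjoint, and give the contractions of the image of a transversal. -/
theorem middle_self [Finite F] (C : Ctx Q q₁ q₂ M) (hC : CentreTriv q₂ M) {c d : β → F} (hc0 : c ≠ 0)
    (hc : q₂ c = 0) (hdc : pol q₂ d c = 1) {Z : (α × β → F) →ₗ[F] α → F}
    (hZ : ∀ u, Z (ten u c) = 0) {g : GL (α × β) F} (hg : g ∈ M)
    (hgx : ∀ x, pc q₂ c x = 0 → mv g x = x + ten (Z x) c) {v : β → F} (hv : pol q₂ c v = 0) :
    (∀ u, pc q₂ v (mv g (ten u d) - ten u d) = -Z (ten u v)) ∧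
      ∀ u t, pol q₁ (Z (ten u v)) t = pol q₁ u (Z (ten t v)) := by
  have h1 : ∀ u, pc q₂ v (mv g (ten u d) - ten u d) = -Z (ten u v) := by
    intro u
    obtain ⟨E, hE, -, hEx⟩ := exists_shear C hc hv
    let ZE : (α × β → F) →ₗ[F] α → F := -pc q₂ v
    have hEperp : ∀ x, pc q₂ c x = 0 → mv E x = x + ten (ZE x) c := fun x hx => by
      rw [hEx, hx, ten_zero_left, smul_zero, add_zero, add_zero]
      show x - ten (pc q₂ v x) c = x + ten (-pc q₂ v x) c
      rw [ten_neg_left, sub_eq_add_neg]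
    have hcomm := middle_comm C hC hc0 hc hZ (Z' := ZE) (fun u => by
      show -pc q₂ v (ten u c) = 0
      rw [pc_ten C, hv, zero_smul, neg_zero]) hg hE hgx hEperp
    have e := congrArg (fun k : GL (α × β) F => mv k (ten u d)) hcomm
    simp only [mv_mul] at e
    have hδ : pc q₂ c (mv g (ten u d) - ten u d) = 0 := by
      rw [map_sub, disp_perp C (C.le hg) (InMiddle.fix C hc hZ hgx), sub_self]
    rw [hEx (ten u d), pc_ten C, hdc, one_smul, mv_sub, mv_add, InMiddle.fix C hc hZ hgx,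
      hgx (ten u v) (by rw [pc_ten C, Orth.pol_comm, hv, zero_smul])] at e
    conv_rhs at e => rw [show mv g (ten u d) = ten u d + (mv g (ten u d) - ten u d) by abel, mv_add,
      hEx (ten u d), pc_ten C, hdc, one_smul, hEperp _ hδ]
    have e' : ten (Z (ten u v)) c = ten (-pc q₂ v (mv g (ten u d) - ten u d)) c := by
      linear_combination (norm := module) e
    have e'' : Z (ten u v) = -pc q₂ v (mv g (ten u d) - ten u d) := rho_injective hc0 e'
    rw [e'', neg_neg]
  refine ⟨h1, fun u t => ?_⟩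
  have := middle_adjoint C hc hdc hZ hg hgx hv u t
  rw [h1, Orth.pol_neg_left C.h₁] at this
  exact neg_inj.1 this

/-- Under a trivial centre the middle is made of shears. -/
theorem middle_shear [Fintype F] (C : Ctx Q q₁ q₂ M)
    (hbig : 4 ≤ Fintype.card α ∨ 5 ≤ Fintype.card F) (hC : CentreTriv q₂ M) : MiddleShear q₂ M := by
  classical
  intro c hc0 hc g hg hfix hmid
  haveI : Nonempty α := Fintype.card_pos_iff.1 (by have := C.hα; omega)
  obtain ⟨d, hd, hcd⟩ := exists_pair C.h₂ hc0 hc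
  have hdc : pol q₂ d c = 1 := by rw [Orth.pol_comm, hcd]
  have hcc := pol_self_zero C.h₂ hc
  obtain ⟨θ, hθ⟩ := exists_dot_one hc0
  set Z : (α × β → F) →ₗ[F] α → F := (ctr θ).comp (mvLin g - LinearMap.id) with hZdef
  have hgx : ∀ x, pc q₂ c x = 0 → mv g x = x + ten (Z x) c := fun x hx => by
    obtain ⟨r, hr⟩ := mem_line.1 (hmid x hx)
    have : Z x = r := by
      rw [hZdef, LinearMap.comp_apply, LinearMap.sub_apply, Matrix.toLin'_apply, LinearMap.id_apply]
      show ctr θ (mv g x - x) = r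
      rw [← hr, ctr_ten, hθ, one_smul]
    rw [this, hr]; abel
  have hZc : ∀ u, Z (ten u c) = 0 := fun u => by
    rw [hZdef, LinearMap.comp_apply, LinearMap.sub_apply, Matrix.toLin'_apply, LinearMap.id_apply]
    show ctr θ (mv g (ten u c) - _) = 0
    rw [hfix, sub_self, map_zero]
  obtain ⟨hXn, hXf, hXm⟩ := pair_perp C.h₂ hc hd hcd
  -- scalar on the middle vectors of singular second factor
  have hscal : ∀ e', pol q₂ e' c = 0 → pol q₂ e' d = 0 → q₂ e' = 0 →
      ∃ k : F, ∀ u, Z (ten u e') = k • u := by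
    intro e' he'c he'd he'
    rcases eq_or_ne e' 0 with rfl | he'0
    · exact ⟨0, fun u => by rw [ten_zero_right, map_zero, zero_smul]⟩
    have hce' : pol q₂ c e' = 0 := by rw [Orth.pol_comm, he'c]
    obtain ⟨f, hfX, hf, hef⟩ := Orth.exists_partner C.h₂ hXn ((hXm e').2 ⟨he'c, he'd⟩) he'0 he'
    have hle : Submodule.span F ({e', f} : Set (β → F)) ≤
        (⊤ : Submodule F (β → F)) ⊓ Orth.orth C.h₂ (Submodule.span F {c, d}) :=
      Submodule.span_le.2 (by
        rintro z (rfl | rfl)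
        exacts [(hXm _).2 ⟨he'c, he'd⟩, hfX])
    obtain ⟨hPn, hP2⟩ := Orth.nondeg_pair C.h₂ he' hf hef
    have hRf := Orth.finrank_inf_orth_add C.h₂ hPn hle
    rw [hP2] at hRf
    obtain ⟨w, hw, hqw⟩ := Orth.exists_anisotropic C.h₂ (Orth.nondeg_inf_orth C.h₂ hPn hXn hle) fun h => by
      rw [h, finrank_bot] at hRf; have := C.hβ; omega
    obtain ⟨hwc, hwd⟩ := (hXm w).1 hw.1
    have hew : pol q₂ e' w = 0 := hw.2 e' (Submodule.subset_span (Set.mem_insert _ _))
    obtain ⟨L, hL⟩ : ∃ L : ((α × β → F) →ₗ[F] α → F) → (α → F) →ₗ[F] α → F,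
        ∀ Z u, L Z u = Z (ten u e') := ⟨fun Z => Z.comp (rho e'), fun Z u => rfl⟩
    -- the second difference
    have hdiff : ∀ Z₂, InMiddle q₂ M c Z₂ → ∃ Z' : (α × β → F) →ₗ[F] α → F, InMiddle q₂ M c Z' ∧
        ∀ x, pc q₂ c x = 0 → Z' x = (-(2 * q₂ w)) • Z₂ (ten (pc q₂ e' x) e') := by
      rintro Z₂ ⟨hZ₂, g₂, hg₂, hg₂x⟩
      have hconj : ∀ s : F, ∃ k ∈ M, ∀ x, pc q₂ c x = 0 → mv k x =
          x + ten (Z₂ (x - s • ten (pc q₂ e' x) w +
            ten (s • pc q₂ w x - (s ^ 2 * q₂ w) • pc q₂ e' x) e')) c := by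
        intro s
        obtain ⟨E, hE, -, hEx⟩ := exists_shear C (v := (-s) • w) he'
          (by rw [Orth.pol_smul_right C.h₂, hew, mul_zero])
        have hEc : ∀ x, pc q₂ c (mv E x) = pc q₂ c x := fun x => by
          rw [hEx, map_sub, map_add, pc_ten C, pc_ten C, Orth.pol_smul_left C.h₂, hwc, he'c]
          simp
        have hEfix : ∀ r, mv E (ten r c) = ten r c := fun r => by
          rw [hEx, pc_ten C, pc_ten C, hce', Orth.pol_smul_right C.h₂, Orth.pol_comm c w, hwc]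
          simp [ten_zero_left]
        refine ⟨E⁻¹ * g₂ * E, M.mul_mem (M.mul_mem (M.inv_mem hE) hg₂) hE, fun x hx => ?_⟩
        rw [mv_mul, mv_mul, hg₂x _ (by rw [hEc, hx]), mv_add, mv_inv_mv,
          show mv E⁻¹ (ten (Z₂ (mv E x)) c) = ten (Z₂ (mv E x)) c by rw [mv_eq_iff, inv_inv, hEfix], hEx,
          pc_smul_vec C, LinearMap.smul_apply, Orth.q_smul C.h₂, ten_smul_right]
        congr 3
        simp only [sub_eq_add_neg, ten_add_left, ten_smul_left, ten_neg_left, neg_smul]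
        module
      obtain ⟨k₂, hk₂, hk₂x⟩ := hconj 2
      obtain ⟨k₁, hk₁, hk₁x⟩ := hconj 1
      refine ⟨(-(2 * q₂ w)) • Z₂.comp ((rho e').comp (pc q₂ e')), ⟨fun u => ?_, k₂ * k₁⁻¹ * k₁⁻¹ * g₂,
        M.mul_mem (M.mul_mem (M.mul_mem hk₂ (M.inv_mem hk₁)) (M.inv_mem hk₁)) hg₂, fun x hx => ?_⟩, fun x hx => rfl⟩
      · simp [pc_ten C, hce', ten_zero_left]
      · have hinv : ∀ y, pc q₂ c y = 0 → mv k₁⁻¹ y = y - ten (Z₂ (y - (1 : F) • ten (pc q₂ e' y) w +
            ten ((1 : F) • pc q₂ w y - ((1 : F) ^ 2 * q₂ w) • pc q₂ e' y) e')) c := fun y hy => by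
          rw [mv_eq_iff, inv_inv]
          have hr : ∀ r, pc q₂ e' (ten r c) = 0 ∧ pc q₂ w (ten r c) = 0 := fun r => by
            rw [pc_ten C, pc_ten C, hce', Orth.pol_comm c w, hwc]; simp
          rw [hk₁x _ (by rw [map_sub, hy, pc_ten_self C hc, sub_zero])]
          simp only [map_sub, (hr _).1, (hr _).2, sub_zero, map_add, map_smul, hZ₂, ten_sub_left, ten_add_left,
            ten_zero_left, map_zero, smul_zero]
          abel
        have hk : ∀ r, pc q₂ c (x + ten r c) = 0 := fun r => by rw [map_add, hx, pc_ten_self C hc, add_zero]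
        have hk' : ∀ (y : α × β → F) (r : α → F), pc q₂ c y = 0 → pc q₂ c (y - ten r c) = 0 := fun y r hy => by
          rw [map_sub, hy, pc_ten_self C hc, sub_zero]
        have hr : ∀ r, pc q₂ e' (ten r c) = 0 ∧ pc q₂ w (ten r c) = 0 := fun r => by
          rw [pc_ten C, pc_ten C, hce', Orth.pol_comm c w, hwc]; simp
        rw [mv_mul, mv_mul, mv_mul, hg₂x x hx, hinv _ (hk _), hinv _ (hk' _ _ (hk _)),
          hk₂x _ (hk' _ _ (hk' _ _ (hk _)))]
        simp only [map_sub, map_add, map_smul, hZ₂, (hr _).1, (hr _).2, LinearMap.smul_apply,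
          LinearMap.comp_apply, rho_apply, ten_smul_left, ten_add_left, ten_sub_left, ten_zero_left, map_zero,
          smul_zero, add_zero, sub_zero]
        module
    -- the family is commutative
    set T : Set ((α → F) →ₗ[F] α → F) := {S | ∃ Z, InMiddle q₂ M c Z ∧ S = L Z} with hT
    have hcommT : ∀ S ∈ T, ∀ S' ∈ T, ∀ u, S (S' u) = S' (S u) := by
      rintro _ ⟨Z₁, h₁, rfl⟩ _ ⟨Z₂, h₂, rfl⟩ u
      obtain ⟨Z', h', hZ'x⟩ := hdiff Z₂ h₂
      obtain ⟨hZ₁, g₁, hg₁, hg₁x⟩ := h₁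
      obtain ⟨hZ', g', hg', hg'x⟩ := h'
      have hcomm := middle_comm C hC hc0 hc hZ₁ hZ' hg₁ hg' hg₁x hg'x
      obtain ⟨δ₁, hδ₁⟩ : ∃ δ, δ = mv g₁ (ten u d) - ten u d := ⟨_, rfl⟩
      obtain ⟨δ', hδ'⟩ : ∃ δ, δ = mv g' (ten u d) - ten u d := ⟨_, rfl⟩
      have hp₁ : pc q₂ c δ₁ = 0 := by
        rw [hδ₁, map_sub, disp_perp C (C.le hg₁) (InMiddle.fix C hc hZ₁ hg₁x), sub_self]
      have hp' : pc q₂ c δ' = 0 := by
        rw [hδ', map_sub, disp_perp C (C.le hg') (InMiddle.fix C hc hZ' hg'x), sub_self]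
      have e := congrArg (fun k : GL (α × β) F => mv k (ten u d)) hcomm
      simp only [mv_mul] at e
      rw [show mv g' (ten u d) = ten u d + δ' by rw [hδ']; abel,
        show mv g₁ (ten u d) = ten u d + δ₁ by rw [hδ₁]; abel, mv_add, mv_add, hg₁x _ hp', hg'x _ hp₁,
        show mv g' (ten u d) = ten u d + δ' by rw [hδ']; abel,
        show mv g₁ (ten u d) = ten u d + δ₁ by rw [hδ₁]; abel] at e
      have he1 : ten (Z₁ δ') c = ten (Z' δ₁) c := by linear_combination (norm := module) e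
      have e'' : Z₁ δ' = Z' δ₁ := rho_injective hc0 he1
      have hline : δ' - ten ((2 * q₂ w) • Z₂ (ten u e')) e' ∈ line α c := by
        refine mem_line_of_pc C hc0 fun v hv => ?_
        have hvx : pc q₂ c (ten u v) = 0 := by rw [pc_ten C, Orth.pol_comm, hv, zero_smul]
        rw [map_sub, hδ', (middle_self C hC hc0 hc hdc hZ' hg' hg'x hv).1, hZ'x _ hvx, pc_ten C, pc_ten C,
          ten_smul_left, map_smul, Orth.pol_comm v e']
        simp only [neg_smul, neg_neg, smul_smul]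
        module
      obtain ⟨r, hr⟩ := mem_line.1 hline
      have k1 : Z₁ δ' = (2 * q₂ w) • Z₁ (ten (Z₂ (ten u e')) e') := by
        rw [show δ' = ten ((2 * q₂ w) • Z₂ (ten u e')) e' + ten r c by rw [hr]; abel, map_add, hZ₁, add_zero,
          ten_smul_left, map_smul]
      have k2 : Z' δ₁ = (2 * q₂ w) • Z₂ (ten (Z₁ (ten u e')) e') := by
        rw [hZ'x _ hp₁, hδ₁, (middle_self C hC hc0 hc hdc hZ₁ hg₁ hg₁x hce').1, ten_neg_left, map_neg,
          smul_neg, neg_smul, neg_neg]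
      rw [hL, hL, hL, hL]
      rw [k1, k2] at e''
      exact smul_right_injective _ (mul_ne_zero C.two hqw) e''
    have hsaT : ∀ S ∈ T, ∀ u v, pol q₁ (S u) v = pol q₁ u (S v) := by
      rintro _ ⟨Z₁, ⟨hZ₁, g₁, hg₁, hg₁x⟩, rfl⟩ u v
      rw [hL, hL]
      exact (middle_self C hC hc0 hc hdc hZ₁ hg₁ hg₁x hce').2 u v
    set S := Submodule.span F T
    have hsa : ∀ A ∈ S, ∀ u v, pol q₁ (A u) v = pol q₁ u (A v) := by
      intro A hA
      induction hA using Submodule.span_induction with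
      | mem x hx => exact hsaT x hx
      | zero => intro u v; simp [Orth.pol_zero_left C.h₁, Orth.pol_zero_right C.h₁]
      | add x y _ _ hx hy =>
        intro u v
        simp [Orth.pol_add_left C.h₁, Orth.pol_add_right C.h₁, hx u v, hy u v]
      | smul k x _ hx => intro u v; simp [Orth.pol_smul_left C.h₁, Orth.pol_smul_right C.h₁, hx u v]
    have hcomm : ∀ A ∈ S, ∀ B ∈ S, ∀ u, A (B u) = B (A u) := by
      have h1 : ∀ A ∈ S, ∀ B ∈ T, ∀ u, A (B u) = B (A u) := by
        intro A hA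
        induction hA using Submodule.span_induction with
        | mem x hx => exact hcommT x hx
        | zero => intro B _ u; simp
        | add x y _ _ hx hy => intro B hB u; simp [hx B hB, hy B hB]
        | smul k x _ hx => intro B hB u; simp [hx B hB]
      intro A hA B hB
      induction hB using Submodule.span_induction with
      | mem x hx => exact h1 A hA x hx
      | zero => intro u; simp
      | add x y _ _ hx hy => intro u; simp [hx u, hy u]
      | smul k x _ hx => intro u; simp [hx u]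
    have hconjS : ∀ (e y : α → F) (A : GL α F), q₁ e = 0 → pol q₁ e y = 0 → IsSiegel q₁ A e y →
        A ∈ isometryGroup F q₁ → ∀ U ∈ S, (mvLin A).comp (U.comp (mvLin A⁻¹)) ∈ S := by
      intro e y A he hy hAs hA U hU
      induction hU using Submodule.span_induction with
      | mem x hx =>
        obtain ⟨Z₁, ⟨hZ₁, g₁, hg₁, hg₁x⟩, rfl⟩ := hx
        have hAM : kr A 1 ∈ M := C.memU A hA (siegel_odd C.h₁ C.two he hy hAs)
        refine Submodule.subset_span ⟨(mvLin A).comp (Z₁.comp (mvLin (kr A⁻¹ (1 : GL β F)))), ⟨fun u => ?_,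
          kr A 1 * g₁ * (kr A 1)⁻¹, M.mul_mem (M.mul_mem hAM hg₁) (M.inv_mem hAM), fun z hz => ?_⟩, ?_⟩
        · simp only [LinearMap.comp_apply, Matrix.toLin'_apply]
          show mv A (Z₁ (mv (kr A⁻¹ 1) (ten u c))) = 0
          rw [mv_kr_ten, mv_one, hZ₁, mv_zero]
        · rw [krL_inv, mv_mul, mv_mul, hg₁x _ (by rw [pc_krL, hz, mv_zero]), mv_add, mv_kr_ten, mv_one,
            ← krL_inv, mv_mv_inv]
          simp only [LinearMap.comp_apply, Matrix.toLin'_apply]
        · refine LinearMap.ext fun u => ?_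
          simp only [LinearMap.comp_apply, Matrix.toLin'_apply, hL]
          show mv A (Z₁ (ten (mv A⁻¹ u) e')) = mv A (Z₁ (mv (kr A⁻¹ 1) (ten u e')))
          rw [mv_kr_ten, mv_one]
      | zero => simp
      | add x y _ _ hx hy =>
        rw [LinearMap.add_comp, LinearMap.comp_add]; exact S.add_mem hx hy
      | smul k x _ hx =>
        rw [LinearMap.smul_comp, LinearMap.comp_smul]; exact S.smul_mem k hx
    obtain ⟨k, hk⟩ := scalar_of_family C.h₁ C.two C.hα hbig S hsa hcomm hconjS (L Z)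
      (Submodule.subset_span ⟨Z, ⟨hZc, g, hg, hgx⟩, rfl⟩)
    exact ⟨k, fun u => by rw [← hL]; exact hk u⟩
  -- every middle vector
  let Sset : Submodule F (β → F) :=
    { carrier := {v | ∃ k : F, ∀ u, Z (ten u v) = k • u}
      add_mem' := fun {a b} ⟨k, hk⟩ ⟨l, hl⟩ => ⟨k + l, fun u => by
        rw [ten_add_right, map_add, hk, hl, add_smul]⟩
      zero_mem' := ⟨0, fun u => by rw [ten_zero_right, map_zero, zero_smul]⟩
      smul_mem' := fun t a ⟨k, hk⟩ => ⟨t * k, fun u => by rw [ten_smul_right, map_smul, hk, smul_smul]⟩ }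
  have hall : ∀ v, pol q₂ v c = 0 → v ∈ Sset := by
    intro v hv
    obtain ⟨hv1, hv2⟩ := pair_decomp C.h₂ hc hd hcd v
    rw [show v = pol q₂ v d • c + (v - pol q₂ v d • c - pol q₂ v c • d) by rw [hv, zero_smul]; abel]
    refine Sset.add_mem (Sset.smul_mem _ ⟨0, fun u => by rw [hZc, zero_smul]⟩) ?_
    set v' := v - pol q₂ v d • c - pol q₂ v c • d
    obtain ⟨e, heX, he0, he⟩ := Orth.exists_singular C.h₂ (X := (⊤ : Submodule F (β → F)) ⊓
      Orth.orth C.h₂ (Submodule.span F {c, d})) (by have := C.hβ; omega)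
    obtain ⟨f, hfX, hf, hef⟩ := Orth.exists_partner C.h₂ hXn heX he0 he
    have hiso : ∀ z, z ∈ (⊤ : Submodule F (β → F)) ⊓ Orth.orth C.h₂ (Submodule.span F {c, d}) → q₂ z = 0 →
        z ∈ Sset := fun z hz hzq => hscal z ((hXm z).1 hz).1 ((hXm z).1 hz).2 hzq
    have hv'X := (hXm v').2 ⟨hv1, hv2⟩
    obtain ⟨a1, a2⟩ := pair_decomp C.h₂ he hf hef v'
    set y := v' - pol q₂ v' f • e - pol q₂ v' e • f with hy
    have hyX : y ∈ (⊤ : Submodule F (β → F)) ⊓ Orth.orth C.h₂ (Submodule.span F {c, d}) :=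
      Submodule.sub_mem _ (Submodule.sub_mem _ hv'X (Submodule.smul_mem _ _ heX)) (Submodule.smul_mem _ _ hfX)
    have hy' : f + y - q₂ y • e ∈ Sset := hiso _ (Submodule.sub_mem _ (Submodule.add_mem _ hfX hyX)
      (Submodule.smul_mem _ _ heX)) (by
      rw [Orth.q_sub C.h₂, Orth.q_add C.h₂, Orth.q_smul C.h₂, he, hf, Orth.pol_smul_right C.h₂,
        Orth.pol_add_left C.h₂, Orth.pol_comm f e, hef, Orth.pol_comm f y, a2, a1]
      ring)
    rw [show v' = pol q₂ v' f • e + pol q₂ v' e • f + ((f + y - q₂ y • e) - f + q₂ y • e) by rw [hy]; abel]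
    exact Sset.add_mem (Sset.add_mem (Sset.smul_mem _ (hiso e heX he)) (Sset.smul_mem _ (hiso f hfX hf)))
      (Sset.add_mem (Sset.sub_mem hy' (hiso f hfX hf)) (Sset.smul_mem _ (hiso e heX he)))
  obtain ⟨i₀⟩ := ‹Nonempty α›
  set us : α → F := Pi.single i₀ 1
  have husus : us ⬝ᵥ us = 1 := by simp [us]
  let π : (β → F) →ₗ[F] β → F := LinearMap.id - LinearMap.smulRight (Orth.formQ C.h₂ c) d
  have hπ : ∀ w, π w = w - pol q₂ w c • d := fun w => rfl
  have hπc : ∀ w, pol q₂ (π w) c = 0 := fun w => by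
    rw [hπ, Orth.pol_sub_left C.h₂, Orth.pol_smul_left C.h₂, hdc, mul_one, sub_self]
  obtain ⟨f, hf⟩ : ∃ f : Module.Dual F (β → F), ∀ w, f w = us ⬝ᵥ Z (ten us (π w)) :=
    ⟨{ toFun := fun w => us ⬝ᵥ Z (ten us (π w))
       map_add' := fun a b => by rw [map_add, ten_add_right, map_add, dotProduct_add]
       map_smul' := fun t a => by rw [map_smul, ten_smul_right, map_smul, dotProduct_smul]; rfl },
      fun w => rfl⟩
  obtain ⟨v, hv⟩ := Orth.exists_eq_pol C.h₂ (-f)
  have hv' : ∀ w, pol q₂ w v = -f w := fun w => (hv w).symm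
  refine ⟨v, ?_, fun x hx => ?_⟩
  · rw [hv', hf, show π c = c by rw [hπ, hcc, zero_smul, sub_zero], hZc, dotProduct_zero, neg_zero]
  · have hpure : ∀ u w, Z (ten u (π w)) = -(pc q₂ v (ten u (π w))) := fun u w => by
      obtain ⟨k, hk⟩ := hall _ (hπc w)
      have hππ : π (π w) = π w := by rw [hπ (π w), hπc, zero_smul, sub_zero]
      rw [hk, pc_ten C, hv', hf, hππ, hk, dotProduct_smul, husus, neg_smul, neg_neg]
      simp
    let P : (α × β → F) →ₗ[F] α × β → F := LinearMap.id - (rho d).comp (pc q₂ c)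
    have hPx : P x = x := by
      show x - ten (pc q₂ c x) d = x
      rw [hx, ten_zero_left, sub_zero]
    have hP : ∀ u w, P (ten u w) = ten u (π w) := by
      intro u w
      show ten u w - ten (pc q₂ c (ten u w)) d = _
      rw [pc_ten C, hπ]
      funext i
      simp [ten]
      ring
    have key : (Z.comp P) = -((pc q₂ v).comp P) := ext_ten fun u w => by
      simp only [LinearMap.comp_apply, LinearMap.neg_apply, hP, hpure]
    have e := LinearMap.congr_fun key x
    simp only [LinearMap.comp_apply, LinearMap.neg_apply, hPx] at e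
    rw [hgx x hx, e, ten_neg_left, sub_eq_add_neg]

end Cfsg.Agent.OrthTensor
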