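/-
Under a trivial centre every member is a Kronecker product.
-/
import Cfsg.Agent.Lib.OrthTensor.Meet
import Cfsg.Agent.Lib.OrthTensor.Middle
import Cfsg.Agent.Lib.Transvec.OrthFamily

set_option autoImplicit false
set_option linter.unusedSectionVars false

namespace Cfsg.Agent.OrthTensor

open scoped Matrix Kronecker
open Matrix Cfsg.Agent.Transvec Cfsg.Agent.TensorMax
open Cfsg.Agent.TensorMax.U (kr mv_kr_ten isKron_kr isKron_mul isKron_inv mv_kron_ten ext_ten_mv)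
open Cfsg.Agent.Transvec.Orth (pol IsSiegel)

variable {α β : Type} [Fintype α] [DecidableEq α] [Fintype β] [DecidableEq β] {F : Type*} [Field F]
variable {Q : (α × β → F) → F} {q₁ : (α → F) → F} {q₂ : (β → F) → F}
variable {M : Subgroup (GL (α × β) F)}

/-- The coefficients of the vectors of U ⊗ c that g keeps in U ⊗ c. -/
def meet (g : GL (α × β) F) (c : β → F) : Submodule F (α → F) :=
  (line α c).comap ((mvLin g).comp (rho c))

theorem mem_meet {g : GL (α × β) F} {c : β → F} {u : α → F} :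
    u ∈ meet g c ↔ mv g (ten u c) ∈ line α c := by
  simp [meet, Matrix.toLin'_apply, mv]

/-- The coefficients of the vectors of U ⊗ c reached by g from U ⊗ c. -/
def reach (g : GL (α × β) F) (c : β → F) : Submodule F (α → F) :=
  ((line α c).map (mvLin g)).comap (rho c)

theorem mem_reach {g : GL (α × β) F} {c : β → F} {u : α → F} :
    u ∈ reach g c ↔ ∃ t, mv g (ten t c) = ten u c := by
  simp only [reach, Submodule.mem_comap, rho_apply, mem_map_mv]
  constructor
  · rintro ⟨y, hy, e⟩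
    obtain ⟨t, rfl⟩ := mem_line.1 hy
    exact ⟨t, e⟩
  · rintro ⟨t, e⟩
    exact ⟨_, ten_mem_line t c, e⟩

theorem finrank_reach {g : GL (α × β) F} {c : β → F} (hc : c ≠ 0) :
    Module.finrank F (reach g c) = Module.finrank F (meet g c) := by
  have e : (reach g c).map (rho c) = (meet g c).map ((mvLin g).comp (rho c)) := by
    ext y
    simp only [Submodule.mem_map, LinearMap.comp_apply, rho_apply, Matrix.toLin'_apply]
    constructor
    · rintro ⟨u, hu, rfl⟩
      obtain ⟨t, ht⟩ := mem_reach.1 hu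
      exact ⟨t, mem_meet.2 (ht ▸ ten_mem_line _ _), ht⟩
    · rintro ⟨t, ht, rfl⟩
      obtain ⟨u, hu⟩ := mem_line.1 (mem_meet.1 ht)
      exact ⟨u, mem_reach.2 ⟨t, hu.symm⟩, hu⟩
  have h1 := LinearEquiv.finrank_eq (Submodule.equivMapOfInjective _ (rho_injective (α := α) hc) (reach g c))
  have h2 : Function.Injective ((mvLin g).comp (rho (α := α) c)) := fun u v h => by
    simp only [LinearMap.comp_apply, rho_apply, Matrix.toLin'_apply] at h
    exact rho_injective hc (mv_inj g h)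
  have h3 := LinearEquiv.finrank_eq (Submodule.equivMapOfInjective _ h2 (meet g c))
  rw [h1, h3, e]

/-- A configuration with largest meet. -/
def IsMax (q₂ : (β → F) → F) (M : Subgroup (GL (α × β) F)) (g : GL (α × β) F) (c : β → F) : Prop :=
  ∀ g' ∈ M, ¬ IsKron g' → ∀ c', c' ≠ 0 → q₂ c' = 0 →
    Module.finrank F (meet g' c') ≤ Module.finrank F (meet g c)

/-- The conjugate of a shear keeps the meet, and is not a Kronecker product. -/
theorem meet_conj [Finite F] (C : Ctx Q q₁ q₂ M) (hC : CentreTriv q₂ M) (hMid : MiddleShear q₂ M)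
    {g : GL (α × β) F} (hg : g ∈ M) (hgk : ¬ IsKron g) {c v : β → F} (hc0 : c ≠ 0) (hc : q₂ c = 0)
    (hv : pol q₂ c v = 0) (hvc : v ∉ Submodule.span F {c}) {E : GL (α × β) F} (hE : E ∈ M)
    (hEx : ∀ x, mv E x = x + ten (pc q₂ c x) v - ten (pc q₂ v x + q₂ v • pc q₂ c x) c)
    (hmax : IsMax q₂ M g c) :
    g⁻¹ * E * g ∈ M ∧ ¬ IsKron (g⁻¹ * E * g) ∧ IsMax q₂ M (g⁻¹ * E * g) c ∧
      meet (g⁻¹ * E * g) c = meet g c := by
  have hmem : g⁻¹ * E * g ∈ M := M.mul_mem (M.mul_mem (M.inv_mem hg) hE) hg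
  have hnk : ¬ IsKron (g⁻¹ * E * g) := fun hk => hgk (by
    have := isKron_inv (kron_of_conj C hC hMid (M.inv_mem hg) hc0 hc hv hvc hE hEx (by rwa [inv_inv]))
    rwa [inv_inv] at this)
  have hle : meet g c ≤ meet (g⁻¹ * E * g) c := by
    intro u hu
    obtain ⟨r, hr⟩ := mem_line.1 (mem_meet.1 hu)
    rw [mem_meet, mv_mul, mv_mul, ← hr, hEx, pc_ten C, pc_ten C, pol_self_zero C.h₂ hc, hv]
    simp only [zero_smul, smul_zero, add_zero, ten_zero_left, sub_zero]
    rw [hr, mv_inv_mv]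
    exact ten_mem_line _ _
  have heq : meet g c = meet (g⁻¹ * E * g) c :=
    Submodule.eq_of_le_of_finrank_le hle (hmax _ hmem hnk c hc0 hc)
  exact ⟨hmem, hnk, fun g' h1 h2 c' h3 h4 => heq ▸ hmax g' h1 h2 c' h3 h4, heq.symm⟩

/-- The perpendicular part of the image of a line lies on the line. -/
theorem perp_in_line [Finite F] (C : Ctx Q q₁ q₂ M) (hC : CentreTriv q₂ M) (hMid : MiddleShear q₂ M)
    {g : GL (α × β) F} (hg : g ∈ M) (hgk : ¬ IsKron g) {c : β → F} (hc0 : c ≠ 0) (hc : q₂ c = 0)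
    (hJ : 1 ≤ Module.finrank F (meet g c)) (hmax : IsMax q₂ M g c) {x : α × β → F}
    (hx : x ∈ (line α c).map (mvLin g)) (hxp : pc q₂ c x = 0) : x ∈ line α c := by
  obtain ⟨d, hd, hcd⟩ := exists_pair C.h₂ hc0 hc
  obtain ⟨hXn, hXf, hXm⟩ := pair_perp C.h₂ hc hd hcd
  obtain ⟨W, hW⟩ : ∃ W, W = (⊤ : Submodule F (β → F)) ⊓ Orth.orth C.h₂ (Submodule.span F {c, d}) := ⟨_, rfl⟩
  rw [← hW] at hXf hXn hXm
  let L : W →ₗ[F] (α → F) ⧸ reach g c :=
    { toFun := fun v => Submodule.Quotient.mk (pc q₂ (v : β → F) x)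
      map_add' := fun a b => by rw [Submodule.coe_add, pc_add_vec C, LinearMap.add_apply, Submodule.Quotient.mk_add]
      map_smul' := fun t a => by
        rw [Submodule.coe_smul, pc_smul_vec C, LinearMap.smul_apply, Submodule.Quotient.mk_smul]; rfl }
  obtain ⟨⟨v, hvW⟩, hv, hv0⟩ := (LinearMap.ker L).ne_bot_iff.1 (LinearMap.ker_ne_bot_of_finrank_lt (by
    have h1 := Submodule.finrank_quotient_add_finrank (reach g c)
    rw [finrank_reach hc0, Module.finrank_pi] at h1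
    have := C.hαβ
    omega))
  obtain ⟨hvc, hvd⟩ := (hXm v).1 hvW
  have hvn : v ∉ Submodule.span F {c} := fun hm => by
    obtain ⟨t, rfl⟩ := Submodule.mem_span_singleton.1 hm
    rw [Orth.pol_smul_left C.h₂, hcd, mul_one] at hvd
    exact hv0 (Subtype.ext (show t • c = 0 by rw [hvd, zero_smul]))
  have hcv : pol q₂ c v = 0 := by rw [Orth.pol_comm, hvc]
  obtain ⟨E, hE, -, hEx⟩ := exists_shear C hc hcv
  obtain ⟨-, -, -, heq⟩ := meet_conj C hC hMid hg hgk hc0 hc hcv hvn hE hEx hmax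
  obtain ⟨s, hs⟩ := mem_reach.1 ((Submodule.Quotient.mk_eq_zero _).1
    (show Submodule.Quotient.mk (pc q₂ v x) = (0 : (α → F) ⧸ reach g c) from LinearMap.mem_ker.1 hv))
  obtain ⟨y, hy, rfl⟩ := mem_map_mv.1 hx
  obtain ⟨t, rfl⟩ := mem_line.1 hy
  have ht : t ∈ meet (g⁻¹ * E * g) c := by
    rw [mem_meet, mv_mul, mv_mul, hEx, hxp, smul_zero, add_zero, ten_zero_left, add_zero, ← hs, mv_sub,
      mv_inv_mv, mv_inv_mv, ← ten_sub_left]
    exact ten_mem_line _ _
  rw [heq] at ht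
  exact mem_meet.1 ht

/-- Under a trivial centre every member is a Kronecker product. -/
theorem all_kron [Fintype F] (C : Ctx Q q₁ q₂ M) (hbig : 4 ≤ Fintype.card α ∨ 5 ≤ Fintype.card F)
    (hC : CentreTriv q₂ M) (hmir : Mirror (α := α) q₂ M) {g : GL (α × β) F} (hg : g ∈ M) : IsKron g := by
  classical
  have hMid := middle_shear C hbig hC
  by_contra hgk
  obtain ⟨g₀, hg₀, hg₀k, c₀, hc₀0, hc₀, u₀, hu₀0, hu₀, ε, hε⟩ := exists_meet C hbig hC hMid hmir hg hgk
  have hε0 : ε ≠ 0 := fun h0 => by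
    rw [h0, zero_smul] at hε
    exact ten_ne_zero hu₀0 hc₀0 (mv_inj g₀ (hε.trans (mv_zero g₀).symm))
  have hu₀m : u₀ ∈ meet g₀ c₀ := by
    rw [mem_meet, hε, ← ten_smul_left]; exact ten_mem_line _ _
  have hJ₀ : 1 ≤ Module.finrank F (meet g₀ c₀) := Submodule.one_le_finrank_iff.2 fun h => hu₀0 (by
    rw [h] at hu₀m
    exact (Submodule.mem_bot F).1 hu₀m)
  -- a largest configuration
  obtain ⟨g₁, hg₁, hg₁k, c, hc0, hc, hmax, hcase⟩ : ∃ g ∈ M, ¬ IsKron g ∧ ∃ c, c ≠ 0 ∧ q₂ c = 0 ∧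
      IsMax q₂ M g c ∧ (2 ≤ Module.finrank F (meet g c) ∨
        (Module.finrank F (meet g c) = 1 ∧ ∃ u, u ≠ 0 ∧ q₁ u = 0 ∧ u ∈ reach g c)) := by
    by_cases h2 : ∃ g ∈ M, ¬ IsKron g ∧ ∃ c, c ≠ 0 ∧ q₂ c = 0 ∧ 2 ≤ Module.finrank F (meet g c)
    · have hex : ∃ n, ∃ g ∈ M, ¬ IsKron g ∧ ∃ c, c ≠ 0 ∧ q₂ c = 0 ∧
          Fintype.card α ≤ Module.finrank F (meet g c) + n := by
        obtain ⟨g, h1, h2, c, h3, h4, -⟩ := h2
        exact ⟨Fintype.card α, g, h1, h2, c, h3, h4, Nat.le_add_left _ _⟩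
      obtain ⟨g₁, hg₁, hg₁k, c, hc0, hc, hn⟩ := Nat.find_spec hex
      have hmax : IsMax q₂ M g₁ c := fun g' h1 h2 c' h3 h4 => by
        have hle := Submodule.finrank_le (meet g' c')
        rw [Module.finrank_pi] at hle
        by_contra hlt
        have := Nat.find_min' hex (m := Fintype.card α - Module.finrank F (meet g' c'))
          ⟨g', h1, h2, c', h3, h4, by omega⟩
        omega
      obtain ⟨g₂, h1, h2', c₂, h3, h4, h5⟩ := h2
      exact ⟨g₁, hg₁, hg₁k, c, hc0, hc, hmax, Or.inl (h5.trans (hmax g₂ h1 h2' c₂ h3 h4))⟩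
    · push Not at h2
      have := h2 g₀ hg₀ hg₀k c₀ hc₀0 hc₀
      refine ⟨g₀, hg₀, hg₀k, c₀, hc₀0, hc₀,
        fun g' h1 h2' c' h3 h4 => by have := h2 g' h1 h2' c' h3 h4; omega, Or.inr ⟨by omega, u₀, hu₀0, hu₀, ?_⟩⟩
      refine mem_reach.2 ⟨ε⁻¹ • u₀, ?_⟩
      rw [ten_smul_left, mv_smul, hε, smul_smul, inv_mul_cancel₀ hε0, one_smul]
  have hJ : 1 ≤ Module.finrank F (meet g₁ c) := by rcases hcase with h | ⟨h, -⟩ <;> omega
  set R := (line α c).map (mvLin g₁) with hR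
  have hperp : ∀ x ∈ R, pc q₂ c x = 0 → x ∈ line α c := fun x hx hxp =>
    perp_in_line C hC hMid hg₁ hg₁k hc0 hc hJ hmax hx hxp
  have hdimR : Module.finrank F R = Fintype.card α := by rw [hR, finrank_map_mv, finrank_line hc0]
  have hRiso : ∀ x ∈ R, ∀ y ∈ R, pol Q x y = 0 := by
    intro x hx y hy
    obtain ⟨x', hx', rfl⟩ := mem_map_mv.1 hx
    obtain ⟨y', hy', rfl⟩ := mem_map_mv.1 hy
    obtain ⟨a, rfl⟩ := mem_line.1 hx'
    obtain ⟨b, rfl⟩ := mem_line.1 hy'
    rw [C.iso hg₁, C.hpol, pol_self_zero C.h₂ hc, mul_zero]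
  have hreach : ∀ x ∈ R, ∀ u ∈ reach g₁ c, pol q₁ (pc q₂ c x) u = 0 := by
    intro x hx u hu
    obtain ⟨t, ht⟩ := mem_reach.1 hu
    rw [← C.pol_pc]
    exact hRiso x hx _ (mem_map_mv.2 ⟨_, ten_mem_line t c, ht⟩)
  -- a vector leaving the perpendicular
  obtain ⟨y, hyR, hy, hgood⟩ : ∃ y ∈ R, pc q₂ c y ≠ 0 ∧ (3 ≤ Module.finrank F (meet g₁ c) + 1 ∨
      ∀ x ∈ R, pol q₁ (pc q₂ c y) (pc q₂ c x) = 0) := by
    rcases hcase with h2 | ⟨h1, u, hu0, hu, hur⟩
    · by_contra hcon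
      push Not at hcon
      have hle : R ≤ line α c := fun x hx => by
        by_cases hxp : pc q₂ c x = 0
        · exact hperp x hx hxp
        · have := (hcon x hx hxp).1; omega
      have heq := Submodule.eq_of_le_of_finrank_le hle (by rw [hdimR, finrank_line hc0])
      exact hg₁k (kron_of_line C hC hMid hg₁ hc0 hc hc0 hc heq)
    · let L : R →ₗ[F] α → F := (pc q₂ c).comp R.subtype
      let S : Submodule F (α → F) := Submodule.span F {u}
      have hker : Module.finrank F (LinearMap.ker L) ≤ 1 := by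
        have h : (LinearMap.ker L).map R.subtype ≤ (reach g₁ c).map (rho c) := by
          rintro _ ⟨x, hx, rfl⟩
          obtain ⟨w, hw⟩ := mem_line.1 (hperp x x.2 (LinearMap.mem_ker.1 hx))
          obtain ⟨z, hz, hze⟩ := mem_map_mv.1 x.2
          obtain ⟨t, rfl⟩ := mem_line.1 hz
          exact ⟨w, mem_reach.2 ⟨t, by rw [hze, hw]⟩, hw⟩
        have h' := Submodule.finrank_mono h
        rw [Submodule.finrank_map_subtype_eq] at h'
        have h'' := Submodule.finrank_map_le (rho c) (reach g₁ c)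
        rw [finrank_reach hc0, h1] at h''
        omega
      have hrange : LinearMap.range L ≤ Orth.orth C.h₁ S := by
        rintro _ ⟨x, rfl⟩
        refine (Orth.mem_orth_span C.h₁).2 ?_
        rintro z rfl
        rw [Orth.pol_comm]
        exact hreach x x.2 _ hur
      have hS : Module.finrank F S = 1 := finrank_span_singleton hu0
      have hsum := Orth.finrank_orth C.h₁ S
      have hL := LinearMap.finrank_range_add_finrank_ker L
      rw [hdimR] at hL
      have heq := Submodule.eq_of_le_of_finrank_le hrange (by omega)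
      obtain ⟨x, hx⟩ : u ∈ LinearMap.range L := by
        rw [heq]
        exact (Orth.mem_orth_span C.h₁).2 (by rintro z rfl; exact pol_self_zero C.h₁ hu)
      refine ⟨x, x.2, ?_, Or.inr fun z hz => ?_⟩
      · rw [show pc q₂ c (x : α × β → F) = u from hx]; exact hu0
      · rw [show pc q₂ c (x : α × β → F) = u from hx, Orth.pol_comm]
        exact hreach z hz u hur
  -- the second factor of the shear
  obtain ⟨d, hd, hcd⟩ := exists_pair C.h₂ hc0 hc
  obtain ⟨hXn, hXf, hXm⟩ := pair_perp C.h₂ hc hd hcd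
  obtain ⟨W, hW⟩ : ∃ W, W = (⊤ : Submodule F (β → F)) ⊓ Orth.orth C.h₂ (Submodule.span F {c, d}) := ⟨_, rfl⟩
  rw [← hW] at hXf hXn hXm
  set K : Submodule F (α × β → F) := (R ⊓ line α c) ⊔ Submodule.span F {y}
  obtain ⟨T, hT⟩ := Submodule.exists_isCompl (K.comap R.subtype)
  have hdimT : Module.finrank F T + Module.finrank F (meet g₁ c) + 1 ≤ Fintype.card α := by
    have h1 := Submodule.finrank_add_eq_of_isCompl hT
    rw [hdimR] at h1
    have hKR : K ≤ R := sup_le inf_le_left ((Submodule.span_singleton_le_iff_mem _ _).2 hyR)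
    have h2 := LinearEquiv.finrank_eq (Submodule.comapSubtypeEquivOfLe hKR)
    have h3 : Module.finrank F (R ⊓ line α c : Submodule F (α × β → F)) = Module.finrank F (meet g₁ c) := by
      rw [← finrank_reach hc0, LinearEquiv.finrank_eq (Submodule.equivMapOfInjective _ (rho_injective (α := α) hc0)
        (reach g₁ c))]
      suffices h : R ⊓ line α c = (reach g₁ c).map (rho c) by rw [h]
      refine le_antisymm (fun x hx => ?_) ?_
      · obtain ⟨w, hw⟩ := mem_line.1 hx.2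
        obtain ⟨z, hz, hze⟩ := mem_map_mv.1 hx.1
        obtain ⟨t, rfl⟩ := mem_line.1 hz
        exact ⟨w, mem_reach.2 ⟨t, by rw [hze, hw]⟩, hw⟩
      · rintro _ ⟨w, hw, rfl⟩
        obtain ⟨t, ht⟩ := mem_reach.1 hw
        exact ⟨mem_map_mv.2 ⟨_, ten_mem_line t c, ht⟩, ten_mem_line _ _⟩
    have hlt : R ⊓ line α c < K := lt_of_le_of_ne le_sup_left fun h => hy (by
      have : y ∈ R ⊓ line α c := h ▸ Submodule.mem_sup_right (Submodule.mem_span_singleton_self y)
      obtain ⟨w, rfl⟩ := mem_line.1 this.2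
      exact pc_ten_self C hc w)
    have h4 := Submodule.finrank_lt_finrank_of_lt hlt
    omega
  obtain ⟨Φ, hΦ⟩ : ∃ Φ : W →ₗ[F] Module.Dual F T, ∀ v z, Φ v z =
      pol q₁ (pc q₂ c y) (pc q₂ (v : β → F) ((z : R) : α × β → F)) -
        pol q₁ (pc q₂ (v : β → F) y) (pc q₂ c ((z : R) : α × β → F)) := by
    refine ⟨LinearMap.mk₂ F (fun (v : W) (z : T) =>
      pol q₁ (pc q₂ c y) (pc q₂ (v : β → F) ((z : R) : α × β → F)) -
        pol q₁ (pc q₂ (v : β → F) y) (pc q₂ c ((z : R) : α × β → F))) ?_ ?_ ?_ ?_, fun v z => rfl⟩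
    · intro a b z
      simp only [Submodule.coe_add, pc_add_vec C, LinearMap.add_apply, Orth.pol_add_right C.h₁,
        Orth.pol_add_left C.h₁]
      ring
    · intro t a z
      simp only [Submodule.coe_smul, pc_smul_vec C, LinearMap.smul_apply, Orth.pol_smul_right C.h₁,
        Orth.pol_smul_left C.h₁, smul_eq_mul]
      ring
    · intro a z z'
      simp only [Submodule.coe_add, map_add, Orth.pol_add_right C.h₁]
      ring
    · intro t a z
      simp only [Submodule.coe_smul, map_smul, Orth.pol_smul_right C.h₁, smul_eq_mul]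
      ring
  have hker := LinearMap.finrank_range_add_finrank_ker Φ
  have hrg := Submodule.finrank_le (LinearMap.range Φ)
  have hdual := hrg.trans (le_of_eq (Subspace.dual_finrank_eq (K := F) (V := T)))
  clear hrg
  obtain ⟨v, hv0, hvW, hvΦ, hvq⟩ : ∃ v, v ≠ 0 ∧ ∃ hv : v ∈ W, Φ ⟨v, hv⟩ = 0 ∧
      (q₂ v = 0 ∨ ∀ x ∈ R, pol q₁ (pc q₂ c y) (pc q₂ c x) = 0) := by
    rcases hgood with h2 | hzero
    · obtain ⟨v, hv, hv0, hvq⟩ := Orth.exists_singular C.h₂ (X := (LinearMap.ker Φ).map W.subtype) (by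
        rw [Submodule.finrank_map_subtype_eq]
        have := C.hαβ
        omega)
      obtain ⟨⟨v', hv'⟩, hker', rfl⟩ := hv
      exact ⟨v', hv0, hv', LinearMap.mem_ker.1 hker', Or.inl hvq⟩
    · obtain ⟨⟨v, hv⟩, hker', hv0⟩ := (LinearMap.ker Φ).ne_bot_iff.1 (fun h => by
        rw [h, finrank_bot] at hker
        have := C.hαβ
        omega)
      exact ⟨v, fun h => hv0 (Subtype.ext h), hv, LinearMap.mem_ker.1 hker', Or.inr hzero⟩
  obtain ⟨hvc, hvd⟩ := (hXm v).1 hvW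
  have hcv : pol q₂ c v = 0 := by rw [Orth.pol_comm, hvc]
  have hvn : v ∉ Submodule.span F {c} := fun hm => by
    obtain ⟨t, rfl⟩ := Submodule.mem_span_singleton.1 hm
    rw [Orth.pol_smul_left C.h₂, hcd, mul_one] at hvd
    exact hv0 (by rw [hvd, zero_smul])
  -- the conditions hold on all of R
  have hcond : ∀ x ∈ R, pol q₁ (pc q₂ c y) (pc q₂ v x) - pol q₁ (pc q₂ v y) (pc q₂ c x) = 0 := by
    intro x hx
    obtain ⟨k, hk, t, ht, hkt⟩ := Submodule.mem_sup.1
      (hT.sup_eq_top ▸ Submodule.mem_top : (⟨x, hx⟩ : R) ∈ K.comap R.subtype ⊔ T)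
    have hxe : x = (k : α × β → F) + t := by
      have := congrArg Subtype.val hkt
      simpa using this.symm
    obtain ⟨k₁, hk₁, k₂, hk₂, hke⟩ := Submodule.mem_sup.1 (show (k : α × β → F) ∈ K from hk)
    obtain ⟨s, rfl⟩ := Submodule.mem_span_singleton.1 hk₂
    obtain ⟨w, rfl⟩ := mem_line.1 hk₁.2
    have hΦt := hΦ ⟨v, hvW⟩ ⟨t, ht⟩
    rw [hvΦ, LinearMap.zero_apply] at hΦt
    rw [hxe, ← hke]
    simp only [map_add, map_smul, pc_ten C, pol_self_zero C.h₂ hc, hcv, zero_smul, zero_add,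
      Orth.pol_add_right C.h₁, Orth.pol_smul_right C.h₁, Orth.pol_comm (pc q₂ v y) (pc q₂ c y)]
    linear_combination -hΦt
  obtain ⟨E, hE, -, hEx⟩ := exists_shear C hc hcv
  obtain ⟨hg', hg'k, hg'max, heq⟩ := meet_conj C hC hMid hg₁ hg₁k hc0 hc hcv hvn hE hEx hmax
  have hEy : ∀ x ∈ R, pol Q (mv E y) x = 0 := by
    intro x hx
    rw [hEx, Orth.pol_sub_left C.hQ, Orth.pol_add_left C.hQ, hRiso y hyR x hx, C.pol_pc_left, C.pol_pc_left,
      Orth.pol_add_right C.h₁, Orth.pol_smul_right C.h₁]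
    have h1 := hcond x hx
    have h2 : q₂ v * pol q₁ (pc q₂ c x) (pc q₂ c y) = 0 := by
      rcases hvq with h | h
      · rw [h, zero_mul]
      · rw [Orth.pol_comm, h x hx, mul_zero]
    rw [Orth.pol_comm (pc q₂ v x) (pc q₂ c y), Orth.pol_comm (pc q₂ c x) (pc q₂ v y)]
    linear_combination h1 - h2
  obtain ⟨z, hz, hzy⟩ := mem_map_mv.1 hyR
  obtain ⟨t, rfl⟩ := mem_line.1 hz
  obtain ⟨x', hx'⟩ : ∃ x', x' = mv (g₁⁻¹ * E * g₁) (ten t c) := ⟨_, rfl⟩
  have hx'p : pc q₂ c x' = 0 := by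
    refine eq_zero_of_orth C.h₁ fun u => ?_
    rw [← C.pol_pc, ← C.iso hg₁, hx', mv_mul, mv_mul, mv_mv_inv, hzy]
    exact hEy _ (mem_map_mv.2 ⟨_, ten_mem_line u c, rfl⟩)
  have hline : x' ∈ line α c := perp_in_line C hC hMid hg' hg'k hc0 hc (by rw [heq]; exact hJ) hg'max
    (mem_map_mv.2 ⟨_, ten_mem_line t c, hx'.symm⟩) hx'p
  have ht' : t ∈ meet g₁ c := by rw [← heq, mem_meet, ← hx']; exact hline
  obtain ⟨w, hw⟩ := mem_line.1 (mem_meet.1 ht')
  rw [hzy] at hw
  exact hy (by rw [← hw, pc_ten_self C hc])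

end Cfsg.Agent.OrthTensor
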